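import Groth.Agent.W7Strat.Near
import Groth.Agent.LocFree.Props
import Groth.Agent.W7Hull.LiftHom
import Groth.Agent.DerPerf.Local
import Mathlib

/-!
The subscheme of the base over which a vector bundle comes from the base.
-/

set_option autoImplicit false
set_option backward.isDefEq.respectTransparency false
set_option backward.isDefEq.respectTransparency.types false
set_option linter.style.haveILetI false
set_option maxHeartbeats 2000000

universe u

open CategoryTheory CategoryTheory.Limits AlgebraicGeometry TopologicalSpace Opposite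
open Groth.Agent.W7Cech
open Groth.Agent.QC (res resO res_res res_self res_smul app_res)
open Groth.Agent.WeakAssLib (mgerm mgerm_smul mgerm_res)
open TMul (IsFrame)

noncomputable section

namespace Groth.Agent.W7Strat

variable {X S : Scheme.{u}} {f : X ⟶ S} {E : X.Modules}

/-- A trivialisation over a point has one rank. -/
lemma exists_trivN_of_subsingleton {T : Scheme.{u}} [Subsingleton T] [Nonempty T] {u : T ⟶ S} (h : TrivF f E u) :
    ∃ n, TrivN f E n u := by
  obtain ⟨t₀⟩ := ‹Nonempty T›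
  obtain ⟨V, hV, n, g, hg⟩ := h t₀
  exact ⟨n, fun t => ⟨V, (Subsingleton.elim t₀ t) ▸ hV, g, hg⟩⟩

/-- The rank along the fibre of a trivialised point. -/
lemma TrivN.hasRank_fibre (hE : FlatMod.IsFinLocFree E) {n : ℕ} {T : Scheme.{u}} {u : T ⟶ S} (h : TrivN f E n u)
    (t : T) (x : X) (hx : f x = u t) : HasRank E n x := by
  obtain ⟨y, rfl, hy⟩ := Scheme.Pullback.exists_preimage_pullback (f := f) (g := u) x t hx
  exact h.hasRank hE t y hy

/-- Free on a fibre is trivial over the point. -/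
theorem trivF_fibre_iff (s : S) : TrivF f E (S.fromSpecResidueField s) ↔
    ∃ n : ℕ, Nonempty ((Scheme.Modules.pullback (f.fiberι s)).obj E ≅ FlatMod.freeMod (f.fiber s) n) := by
  let G := (Scheme.Modules.pullback (pullback.fst f (S.fromSpecResidueField s))).obj E
  constructor
  · intro h
    obtain ⟨V, hV, n, g, hg⟩ := h (IsLocalRing.closedPoint _)
    have hle : (⊤ : (pullback f (S.fromSpecResidueField s)).Opens) ≤
        pullback.snd f (S.fromSpecResidueField s) ⁻¹ᵁ V := fun y _ => by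
      change pullback.snd f (S.fromSpecResidueField s) y ∈ V
      rwa [Subsingleton.elim (pullback.snd f (S.fromSpecResidueField s) y) (IsLocalRing.closedPoint _)]
    obtain ⟨e⟩ := nonempty_iso_free (𝟙 (pullback f (S.fromSpecResidueField s))) le_top (isFrame_res hg hle)
    exact ⟨n, ⟨(Scheme.Modules.restrictFunctorId.app G).symm ≪≫ e⟩⟩
  · rintro ⟨n, ⟨φ⟩⟩ t
    exact ⟨⊤, trivial, n, _, isFrame_app φ.symm (isFrame_freeMod (f.fiber s) n)⟩

variable [IsProper f] [Flat f] [LocallyOfFinitePresentation f] [UnivO f]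

lemma bundle_props (hE : FlatMod.IsFinLocFree E) :
    Coh.IsQCoh E ∧ CohB1.IsFP E ∧ FlatMod.IsFlatOver f E :=
  ⟨LocFree.isQCoh_of_isFinLocFree hE, LocFree.isFP_of_isFinLocFree hE, W7Hull.isFlatOver_of_isFinLocFree f hE⟩

/-- A trivialised map lands in the good points. -/
theorem TrivF.trivF_point (hE : FlatMod.IsFinLocFree E) {T : Scheme.{u}} {u : T ⟶ S} (h : TrivF f E u) (t : T) :
    TrivF f E (S.fromSpecResidueField (u t)) := by
  obtain ⟨hq, hF, hfl⟩ := bundle_props (f := f) hE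
  obtain ⟨V, htV, n, g, hg⟩ := h t
  obtain ⟨g', hg'⟩ := exists_frame_comp V.ι hg
  have hN : TrivN f E n (V.ι ≫ u) := fun v => ⟨V.ι ⁻¹ᵁ V, v.2, g', hg'⟩
  obtain ⟨Z, ι, hι, -, -, hfac, -⟩ := exists_stratum (f := f) (F := E) hq hF hfl n
  obtain ⟨u', hu'⟩ := (hfac _ _).2 (push_of_trivN hN hq hF hfl)
  have hP : Push f E n ι := (hfac _ ι).1 ⟨𝟙 _, Category.id_comp _⟩
  obtain ⟨W, hW, hWt⟩ := exists_nhd_trivN hE hP u' (by rw [hu']; exact hN) ⟨t, htV⟩
  have hz : ι (u' ⟨t, htV⟩) = u t := by rw [← Scheme.Hom.comp_apply, hu']; rfl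
  have hrk : CohIII.fiberRank f E 0 (u t) = n := by
    rw [← hz]
    exact fiberRank_eq_of_strat hq hF hfl ((push_iff_strat hq hF hfl ι).1 hP) _
  obtain ⟨w, hw⟩ := (hfac _ _).2 ((push_iff_strat hq hF hfl _).2 (strat_fromSpecResidueField hq hF hfl hrk))
  have hwW : Set.range w ⊆ Set.range W.ι := by
    rw [Scheme.Opens.range_ι]
    rintro _ ⟨p, rfl⟩
    have hp : w p = u' ⟨t, htV⟩ := ι.isEmbedding.injective
      (by rw [← Scheme.Hom.comp_apply, hw, Scheme.fromSpecResidueField_apply, hz])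
    rw [hp]
    exact hW
  have := (hWt.comp (IsOpenImmersion.lift W.ι w hwW)).trivF
  rwa [← Category.assoc, IsOpenImmersion.lift_fac, hw] at this

/-- The closed piece at a good point. -/
theorem exists_bundle_piece (hE : FlatMod.IsFinLocFree E) {s : S} (hs : TrivF f E (S.fromSpecResidueField s)) :
    ∃ (n : ℕ) (P : Piece f E n s), ∀ (T : Scheme.{u}) (v : T ⟶ (S.basicOpen P.a).toScheme),
      (∃ w, w ≫ pieceIn (P.hU.basicOpen P.a) P.I = v) ↔ TrivF f E (v ≫ (S.basicOpen P.a).ι) := by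
  obtain ⟨hq, hF, hfl⟩ := bundle_props (f := f) hE
  obtain ⟨n, hN⟩ := exists_trivN_of_subsingleton hs
  let t₀ : Spec (S.residueField s) := IsLocalRing.closedPoint _
  have ht₀ : S.fromSpecResidueField s t₀ = s := Scheme.fromSpecResidueField_apply _ _
  let C : Set X := {x | HasRank E n x}ᶜ
  have hcl : IsClosed (f.base '' C) := f.isClosedMap _ (isOpen_hasRank n).isClosed_compl
  let D₁ : S.Opens := ⟨(f.base '' C)ᶜ, hcl.isOpen_compl⟩
  have hsD₁ : s ∈ D₁ := fun ⟨x, hx, hxs⟩ => hx (hN.hasRank_fibre hE t₀ x (hxs.trans ht₀.symm))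
  obtain ⟨Z, ι, hι, -, -, hfac, hrange⟩ := exists_stratum (f := f) (F := E) hq hF hfl n
  obtain ⟨u', hu'⟩ := (hfac _ _).2 (push_of_trivN hN hq hF hfl)
  obtain ⟨W, hW, hWt⟩ := exists_nhd_trivN hE ((hfac _ ι).1 ⟨𝟙 _, Category.id_comp _⟩) u' (by rw [hu']; exact hN) t₀
  obtain ⟨O, hO, hOW⟩ := ι.isEmbedding.isInducing.isOpen_iff.1 W.2
  have hz : ι (u' t₀) = s := by rw [← Scheme.Hom.comp_apply, hu', ht₀]
  have hrk : CohIII.fiberRank f E 0 s = n := by
    have : s ∈ Set.range ι := ⟨_, hz⟩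
    rwa [hrange] at this
  have hsO : s ∈ O := by
    rw [← hz]
    change u' t₀ ∈ ι ⁻¹' O
    rw [hOW]
    exact hW
  obtain ⟨P⟩ := nonempty_piece hq hF hfl hrk.le
  obtain ⟨b, hb, hsb⟩ := P.hU.exists_basicOpen_le (V := D₁ ⊓ ⟨O, hO⟩) ⟨s, hsD₁, hsO⟩ (S.basicOpen_le _ P.mem)
  let P' : Piece f E n s :=
    ⟨P.U, P.hU, P.m, P.Q, P.fp, P.η, P.a * b, Ideal.mul_mem_right _ _ P.ha,
      by rw [Scheme.basicOpen_mul]; exact ⟨P.mem, hsb⟩⟩
  refine ⟨n, P', fun T v => ((P'.factors_iff hq hF hfl v).trans (push_iff_strat hq hF hfl _).symm).trans ?_⟩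
  have hv : ∀ t : T, (v ≫ (S.basicOpen P'.a).ι) t ∈ D₁ ⊓ ⟨O, hO⟩ := fun t =>
    hb (((Scheme.basicOpen_mul S P.a b).le (v t).2).2)
  refine ⟨fun hp => ?_, fun ht => push_of_trivN (ht.trivN fun t x hx => ?_) hq hF hfl⟩
  · obtain ⟨v', hv'⟩ := (hfac _ _).2 hp
    have hvW : Set.range v' ⊆ Set.range W.ι := by
      rw [Scheme.Opens.range_ι]
      rintro _ ⟨t, rfl⟩
      have h1 : ι (v' t) ∈ O := by
        rw [← Scheme.Hom.comp_apply, hv']
        exact (hv t).2
      exact (Set.ext_iff.1 hOW (v' t)).1 h1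
    have := (hWt.comp (IsOpenImmersion.lift W.ι v' hvW)).trivF
    rwa [← Category.assoc, IsOpenImmersion.lift_fac, hv'] at this
  · by_contra hx'
    exact (hv t).1 ⟨x, hx', hx⟩

/-- The frame locus of a basis of the direct image is compact. -/
theorem isCompact_frameLocus {P : Scheme.{u}} {G : P.Modules} (hG : FlatMod.IsFinLocFree G) {U : P.Opens}
    (hU : IsCompact (U : Set P)) {n : ℕ} (b : Fin n → Γ(G, U)) : IsCompact (frameLocus b : Set P) := by
  classical
  have h : ∀ x : U, ∃ (V : P.Opens) (k : ℕ) (a : Fin k → Γ(G, V)),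
      IsAffineOpen V ∧ V ≤ U ∧ (x : P) ∈ V ∧ IsFrame a := fun x => by
    obtain ⟨V₀, k, a, hx, ha⟩ := TMul.exists_isFrame hG (x : P)
    obtain ⟨V, hV, hxV, hle⟩ := exists_isAffineOpen_mem_and_subset (X := P) (x := (x : P)) (U := V₀ ⊓ U) ⟨hx, x.2⟩
    exact ⟨V, k, _, hV, fun z hz => (hle hz).2, hxV, isFrame_res ha fun z hz => (hle hz).1⟩
  choose V k a hV hVU hxV ha using h
  obtain ⟨F, hF⟩ := hU.elim_finite_subcover (fun x : U => (V x : Set P)) (fun x => (V x).2)
    fun x hx => Set.mem_iUnion.2 ⟨⟨x, hx⟩, hxV ⟨x, hx⟩⟩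
  have heq : (frameLocus b : Set P) = ⋃ x ∈ F, ((frameLocus b ⊓ V x : P.Opens) : Set P) := by
    ext z
    simp only [Set.mem_iUnion]
    refine ⟨fun hz => ?_, fun ⟨x, _, hz⟩ => hz.1⟩
    obtain ⟨x, hx, hzx⟩ := Set.mem_iUnion₂.1 (hF (frameLocus_le hz))
    exact ⟨x, hx, hz, hzx⟩
  rw [heq]
  refine F.isCompact_biUnion fun x _ => ?_
  by_cases hk : k x = n
  · subst hk
    choose c hc using fun i => (ha x).comb_surjective le_rfl (res G (hVU x) (b i))
    rw [frameLocus_inf_eq (hVU x) (ha x) (Matrix.of c) fun i =>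
      (hc i).symm.trans (Finset.sum_congr rfl fun j _ => by rw [res_self]; rfl)]
    exact ((hV x).basicOpen _).isCompact
  · rw [frameLocus_inf_eq_bot (ha x) hk]
    exact isCompact_empty

/-- Constructible subsets of affine schemes are compact. -/
theorem isCompact_of_isConstructible {W : Scheme.{u}} [IsAffine W] {C : Set W}
    (hC : Topology.IsConstructible C) : IsCompact C := by
  have h := hC.preimage_of_isOpenEmbedding W.isoSpec.inv.isOpenEmbedding
  obtain ⟨R, _, φ, hφ⟩ := PrimeSpectrum.exists_range_eq_of_isConstructible h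
  have hc : IsCompact (W.isoSpec.inv ⁻¹' C) := hφ ▸ isCompact_range (PrimeSpectrum.continuous_comap φ)
  have h2 := hc.image W.isoSpec.inv.continuous
  rwa [Set.image_preimage_eq _ W.isoSpec.inv.surjective] at h2

/-- The trivial locus in an affine open of a stratum is compact. -/
theorem isCompact_trivLocus (hE : FlatMod.IsFinLocFree E) {n : ℕ} {T : Scheme.{u}} {u : T ⟶ S}
    (hP : Push f E n u) {W₀ : T.Opens} (hW₀ : IsAffineOpen W₀)
    {b : Fin n → Γ((Scheme.Modules.pushforward (pullback.snd f u)).obj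
      ((Scheme.Modules.pullback (pullback.fst f u)).obj E), W₀)} (hb : IsFrame b) :
    IsCompact ({z : T | ∃ W : T.Opens, z ∈ W ∧ TrivN f E n (W.ι ≫ u)} ∩ W₀) := by
  let f' := pullback.snd f u
  let b' : Fin n → Γ((Scheme.Modules.pullback (pullback.fst f u)).obj E, f' ⁻¹ᵁ W₀) := b
  let P₀ := f' ⁻¹ᵁ W₀
  let g : P₀.toScheme ⟶ W₀.toScheme := f' ∣_ W₀
  haveI : IsAffine W₀.toScheme := hW₀
  haveI : IsProper g := MorphismProperty.of_isPullback (P := @IsProper)
    (isPullback_morphismRestrict f' W₀).flip inferInstance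
  haveI : LocallyOfFinitePresentation g := MorphismProperty.of_isPullback (P := @LocallyOfFinitePresentation)
    (isPullback_morphismRestrict f' W₀).flip inferInstance
  have hP₀ : IsCompact (P₀ : Set (pullback f u : Scheme.{u})) := f'.isCompact_preimage hW₀.isCompact
  haveI : QuasiSeparatedSpace P₀.toScheme := quasiSeparatedSpace_of_quasiSeparated g
  have hO : IsCompact (P₀.ι ⁻¹ᵁ frameLocus b' : Set P₀.toScheme) := by
    rw [P₀.ι.isOpenEmbedding.isEmbedding.isCompact_iff]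
    have : P₀.ι '' (P₀.ι ⁻¹ᵁ frameLocus b' : Set P₀.toScheme) = frameLocus b' := by
      rw [Scheme.Hom.coe_preimage, Set.image_preimage_eq_inter_range, Scheme.Opens.range_ι]
      exact Set.inter_eq_left.2 frameLocus_le
    rw [this]
    exact isCompact_frameLocus (DerPerf.isFinLocFree_pullback _ hE) hP₀ b'
  have hOc := (hO.isConstructible (P₀.ι ⁻¹ᵁ frameLocus b').2).compl
  have hgood := isCompact_of_isConstructible (g.isConstructible_image hOc).compl
  have heq : {z : T | ∃ W : T.Opens, z ∈ W ∧ TrivN f E n (W.ι ≫ u)} ∩ W₀ =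
      W₀.ι '' (g '' (P₀.ι ⁻¹ᵁ frameLocus b' : Set P₀.toScheme)ᶜ)ᶜ := by
    ext z
    constructor
    · rintro ⟨⟨W, hzW, hW⟩, hz⟩
      refine ⟨⟨z, hz⟩, ?_, rfl⟩
      rintro ⟨p, hp, hpz⟩
      refine hp (fibre_le_frameLocus hE hP W.ι hW hb (r := ⟨z, hzW⟩) hz ?_)
      rw [← Scheme.Hom.comp_apply, ← morphismRestrict_ι, Scheme.Hom.comp_apply, hpz]
      rfl
    · rintro ⟨⟨z, hz⟩, hzc, rfl⟩
      have hcl : IsClosed (f'.base '' (frameLocus b' : Set (pullback f u : Scheme.{u}))ᶜ) :=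
        f'.isClosedMap _ (frameLocus b').2.isClosed_compl
      refine ⟨⟨W₀ ⊓ ⟨(f'.base '' (frameLocus b' : Set (pullback f u : Scheme.{u}))ᶜ)ᶜ, hcl.isOpen_compl⟩,
        ⟨hz, ?_⟩, trivN_of_frameLocus b' inf_le_left fun x hx => ?_⟩, hz⟩
      · rintro ⟨x, hx, hxz⟩
        have hx0 : x ∈ P₀ := by
          change f' x ∈ W₀
          rw [show f' x = _ from hxz]
          exact hz
        refine hzc ⟨⟨x, hx0⟩, hx, W₀.ι.isOpenEmbedding.injective ?_⟩
        rw [← Scheme.Hom.comp_apply, morphismRestrict_ι, Scheme.Hom.comp_apply]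
        exact hxz
      · by_contra hx'
        exact hx.2 ⟨x, hx', rfl⟩
  rw [heq]
  exact hgood.image W₀.ι.continuous

/-- The good points over a compact open are compact. -/
theorem isCompact_good (hE : FlatMod.IsFinLocFree E) {U : S.Opens} (hU : IsAffineOpen U) :
    IsCompact ({s : S | TrivF f E (S.fromSpecResidueField s)} ∩ U) := by
  classical
  obtain ⟨hq, hF, hfl⟩ := bundle_props (f := f) hE
  choose Z ι hι _ hqc hfac hrange using fun n => exists_stratum (f := f) (F := E) hq hF hfl n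
  let L : ∀ n, Set (Z n) := fun n => {z | ∃ W : (Z n).Opens, z ∈ W ∧ TrivN f E n (W.ι ≫ ι n)}
  have hL : ∀ n, IsCompact (ι n '' (L n ∩ ι n ⁻¹' (U : Set S))) := fun n => by
    haveI := hqc n
    have hP : Push f E n (ι n) := (hfac n _ _).1 ⟨𝟙 _, Category.id_comp _⟩
    choose W₀ b hW₀ hzW₀ hb using fun z => exists_frame_of_push hP z
    let O : Z n → (Z n).Opens := fun z => W₀ z ⊓ ι n ⁻¹ᵁ U
    choose A hA hzA hAle using fun z : (ι n ⁻¹ᵁ U : (Z n).Opens) =>
      exists_isAffineOpen_mem_and_subset (X := Z n) (x := (z : Z n)) (U := O z) ⟨hzW₀ _, z.2⟩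
    obtain ⟨F, hF⟩ := ((ι n).isCompact_preimage hU.isCompact).elim_finite_subcover
      (fun z : (ι n ⁻¹ᵁ U : (Z n).Opens) => (A z : Set (Z n))) (fun z => (A z).2)
      fun z hz => Set.mem_iUnion.2 ⟨⟨z, hz⟩, hzA ⟨z, hz⟩⟩
    have heq : L n ∩ ι n ⁻¹' (U : Set S) = ⋃ z ∈ F, (L n ∩ A z) := by
      ext w
      simp only [Set.mem_iUnion]
      refine ⟨fun hw => ?_, fun ⟨z, _, hw, hwA⟩ => ⟨hw, (hAle z hwA).2⟩⟩
      obtain ⟨z, hz, hwz⟩ := Set.mem_iUnion₂.1 (hF hw.2)
      exact ⟨z, hz, hw.1, hwz⟩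
    rw [heq]
    refine (F.isCompact_biUnion fun z _ => ?_).image (ι n).continuous
    exact isCompact_trivLocus hE hP (hA z) (isFrame_res (hb z) fun w hw => (hAle z hw).1)
  have hranks : ∃ N : Finset ℕ, ∀ x : X, f x ∈ U → ∃ n ∈ N, HasRank E n x := by
    have hUc : IsCompact (f ⁻¹' (U : Set S)) := f.isCompact_preimage hU.isCompact
    obtain ⟨N, hN⟩ := hUc.elim_finite_subcover (fun n : ℕ => {x : X | HasRank E n x}) isOpen_hasRank
      fun x _ => Set.mem_iUnion.2 (exists_hasRank hE x)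
    exact ⟨N, fun x hx => by simpa using hN hx⟩
  obtain ⟨N, hN⟩ := hranks
  have heq : {s : S | TrivF f E (S.fromSpecResidueField s)} ∩ U = ⋃ n ∈ N, ι n '' (L n ∩ ι n ⁻¹' (U : Set S)) := by
    ext s
    simp only [Set.mem_iUnion, Set.mem_image]
    constructor
    · rintro ⟨hs, hsU⟩
      obtain ⟨n, hn⟩ := exists_trivN_of_subsingleton hs
      let t₀ : Spec (S.residueField s) := IsLocalRing.closedPoint _
      have ht₀ : S.fromSpecResidueField s t₀ = s := Scheme.fromSpecResidueField_apply _ _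
      obtain ⟨x, hx⟩ := f.surjective s
      obtain ⟨m, hm, W, a, hxW, ha⟩ := hN x (by rw [hx]; exact hsU)
      obtain ⟨W', a', hxW', ha'⟩ := hn.hasRank_fibre hE t₀ x (hx.trans ht₀.symm)
      obtain rfl : n = m := frame_card_unique ha' ha hxW' hxW
      obtain ⟨w, hw⟩ := (hfac n _ _).2 (push_of_trivN hn hq hF hfl)
      obtain ⟨W'', hwW, hWt⟩ := exists_nhd_trivN hE ((hfac n _ _).1 ⟨𝟙 _, Category.id_comp _⟩) w
        (by rw [hw]; exact hn) t₀
      have hwz : ι n (w t₀) = s := by rw [← Scheme.Hom.comp_apply, hw, ht₀]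
      exact ⟨n, hm, w t₀, ⟨⟨W'', hwW, hWt⟩, by rw [Set.mem_preimage, hwz]; exact hsU⟩, hwz⟩
    · rintro ⟨n, -, z, ⟨⟨W, hzW, hW⟩, hzU⟩, rfl⟩
      exact ⟨hW.trivF.trivF_point hE ⟨z, hzW⟩, hzU⟩
  rw [heq]
  exact N.isCompact_biUnion fun n _ => hL n

/-- **The seesaw subscheme of a vector bundle.** -/
theorem exists_seesaw_bundle (hE : FlatMod.IsFinLocFree E) :
    ∃ (Z : Scheme.{u}) (ι : Z ⟶ S), IsImmersion ι ∧ LocallyOfFinitePresentation ι ∧ QuasiCompact ι ∧
      (∀ (T : Scheme.{u}) (u : T ⟶ S), (∃ u' : T ⟶ Z, u' ≫ ι = u) ↔ TrivF f E u) ∧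
      Set.range ι = {s : S | TrivF f E (S.fromSpecResidueField s)} := by
  let J : Type u := {s : S // TrivF f E (S.fromSpecResidueField s)}
  choose n P hP using fun j : J => exists_bundle_piece hE j.2
  let U₀ : S.Opens := ⨆ j, S.basicOpen (P j).a
  obtain ⟨Z, c₀, hc₀, hiff, hlfp⟩ := exists_glue (S := S) (fun {T} u => TrivF f E u)
    (fun w h => h.comp w) (fun h => trivF_of_local h) U₀
    (fun u h t => Opens.mem_iSup.2 ⟨⟨u t, h.trivF_point hE t⟩, (P _).mem⟩)
    (fun j => S.basicOpen (P j).a) (fun j => le_iSup (fun j => S.basicOpen (P j).a) j)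
    (fun s hs => Opens.mem_iSup.1 hs)
    (fun j => Spec (CommRingCat.of (Γ(S, S.basicOpen (P j).a) ⧸ (P j).I)))
    (fun j => pieceIn ((P j).hU.basicOpen _) (P j).I) fun j T v => hP j T v
  haveI := hc₀
  haveI : LocallyOfFinitePresentation c₀ := hlfp fun j => pieceIn_lfp _ _ (by
    haveI := (P j).fp
    exact (fg_low (A := Γ(S, (P j).U))).map _)
  have hrange : Set.range (c₀ ≫ U₀.ι) = {s : S | TrivF f E (S.fromSpecResidueField s)} := by
    ext s
    constructor
    · rintro ⟨z, rfl⟩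
      exact ((hiff Z (c₀ ≫ U₀.ι)).1 ⟨𝟙 _, Category.id_comp _⟩).trivF_point hE z
    · intro hs
      obtain ⟨w, hw⟩ := (hiff _ _).2 hs
      refine ⟨w (IsLocalRing.closedPoint _), ?_⟩
      rw [← Scheme.Hom.comp_apply, hw, Scheme.fromSpecResidueField_apply]
  haveI : QuasiCompact (c₀ ≫ U₀.ι) := by
    rw [quasiCompact_iff_forall_isAffineOpen]
    intro U hU
    rw [(c₀ ≫ U₀.ι).isEmbedding.isCompact_iff, Scheme.Hom.coe_preimage, Set.image_preimage_eq_inter_range, hrange,
      Set.inter_comm]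
    exact isCompact_good hE hU
  exact ⟨Z, c₀ ≫ U₀.ι, inferInstance, inferInstance, inferInstance, hiff, hrange⟩

end Groth.Agent.W7Strat
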