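import Groth.Agent.TMul.Frame
import Groth.Agent.InvGen.Basic
import Groth.Agent.C1Cap.PullGen

/-!
Frames: restriction, transport, change of frame by matrices, the module they trivialise.
-/

set_option autoImplicit false
set_option backward.isDefEq.respectTransparency false
set_option backward.isDefEq.respectTransparency.types false
set_option linter.style.haveILetI false
set_option maxHeartbeats 1000000

universe u

open CategoryTheory CategoryTheory.Limits AlgebraicGeometry TopologicalSpace Opposite
open Groth.Agent.QC (res resO res_res res_self res_smul app_res)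
open Groth.Agent.WeakAssLib (mgerm mgerm_smul mgerm_res)
open TMul (IsFrame)

noncomputable section

namespace Groth.Agent.W7Strat

variable {X Y : Scheme.{u}} {M N : X.Modules} {n : ℕ} {U : X.Opens}

/-- Frames restrict. -/
lemma isFrame_res {e : Fin n → Γ(M, U)} (he : IsFrame e) {V : X.Opens} (hV : V ≤ U) :
    IsFrame fun i => res M hV (e i) := fun x hx => by
  simpa only [mgerm_res] using he x (hV hx)

/-- Sections whose combinations are bijective on all smaller opens form a frame. -/
theorem isFrame_of_bijective {e : Fin n → Γ(M, U)}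
    (h : ∀ (V : X.Opens) (hV : V ≤ U), Function.Bijective fun c : Fin n → Γ(X, V) => ∑ i, c i • res M hV (e i)) :
    IsFrame e := fun x hx => by
  classical
  constructor
  · intro σ τ hστ
    have hc : ∀ ρ : Fin n → X.presheaf.stalk x, ∃ (W : X.Opens) (hW : W ≤ U) (hxW : x ∈ W) (c : Fin n → Γ(X, W)),
        (fun i => (X.presheaf.germ W x hxW).hom (c i)) = ρ := fun ρ => by
      choose W hxW c hc using fun i => X.presheaf.exists_germ_eq (x := x) (ρ i)
      refine ⟨Finset.univ.inf W ⊓ U, inf_le_right, ⟨by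
          change x ∈ ((Finset.univ.inf W : X.Opens) : Set X)
          rw [Opens.coe_finset_inf, Finset.inf_set_eq_iInter, Set.mem_iInter₂]
          exact fun i _ => hxW i, hx⟩,
        fun i => resO X (inf_le_left.trans (Finset.inf_le (Finset.mem_univ i))) (c i), funext fun i => ?_⟩
      rw [← hc i]
      exact TopCat.Presheaf.germ_res_apply X.presheaf _ x _ (c i)
    obtain ⟨W, hW, hxW, c, hcd⟩ := hc (σ - τ)
    have h0 : mgerm M hxW (∑ i, c i • res M hW (e i)) = mgerm M hxW 0 := by
      rw [TMul.germ_comb hW hxW, map_zero]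
      have e1 : ∀ i, (X.presheaf.germ W x hxW).hom (c i) = σ i - τ i := fun i => congrFun hcd i
      simp only [e1, sub_smul, Finset.sum_sub_distrib]
      exact sub_eq_zero.2 hστ
    obtain ⟨W', hxW', i₁, i₂, heq⟩ := TopCat.Presheaf.germ_eq M.presheaf x hxW hxW _ _ h0
    have heq' : res M i₁.le (∑ i, c i • res M hW (e i)) = res M i₂.le 0 := heq
    rw [map_zero, map_sum] at heq'
    simp only [res_smul, res_res] at heq'
    have hc0 : (fun i => resO X i₁.le (c i)) = 0 := (h W' (i₁.le.trans hW)).1 (by
      simpa only [Pi.zero_apply, zero_smul, Finset.sum_const_zero] using heq')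
    funext i
    have hi : (X.presheaf.germ W x hxW).hom (c i) = σ i - τ i := congrFun hcd i
    rw [← sub_eq_zero, ← hi, ← TopCat.Presheaf.germ_res_apply X.presheaf i₁ x hxW' (c i)]
    exact (congrArg _ (congrFun hc0 i)).trans (map_zero _)
  · intro t
    obtain ⟨W, hxW, s, rfl⟩ := M.presheaf.exists_germ_eq (x := x) t
    obtain ⟨c, hc⟩ := (h (W ⊓ U) inf_le_right).2 (res M inf_le_left s)
    refine ⟨fun i => (X.presheaf.germ (W ⊓ U) x ⟨hxW, hx⟩).hom (c i), ?_⟩
    have h1 := congrArg (mgerm M (show x ∈ W ⊓ U from ⟨hxW, hx⟩)) hc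
    rw [TMul.germ_comb, mgerm_res] at h1
    exact h1

/-- Isomorphisms keep frames. -/
lemma isFrame_app (φ : M ≅ N) {e : Fin n → Γ(M, U)} (he : IsFrame e) :
    IsFrame fun i => φ.hom.app U (e i) := by
  refine isFrame_of_bijective fun V hV => ?_
  have h : (fun c : Fin n → Γ(X, V) => ∑ i, c i • res N hV (φ.hom.app U (e i))) =
      (φ.hom.app V) ∘ fun c => ∑ i, c i • res M hV (e i) := by
    funext c
    simp only [Function.comp_apply, map_sum, Scheme.Modules.Hom.app_smul, app_res]
  rw [h]
  exact (ConcreteCategory.bijective_of_isIso (φ.hom.app V)).comp ⟨he.comb_injective hV, he.comb_surjective hV⟩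

/-- Frames along a composite of inverse images. -/
lemma exists_frame_pullback_comp {P P' P'' : Scheme.{u}} (h : P'' ⟶ P') (k : P' ⟶ P) (l : P'' ⟶ P) (e : h ≫ k = l)
    (E : P.Modules) {W : P'.Opens} {g : Fin n → Γ((Scheme.Modules.pullback k).obj E, W)} (hg : IsFrame g)
    {W' : P''.Opens} (hW : W' ≤ h ⁻¹ᵁ W) :
    ∃ g' : Fin n → Γ((Scheme.Modules.pullback l).obj E, W'), IsFrame g' :=
  ⟨_, isFrame_res (isFrame_app ((Scheme.Modules.pullbackComp h k).app E ≪≫
    (Scheme.Modules.pullbackCongr e).app E) (TMul.IsFrame.pullback h hg)) hW⟩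

/-- The change of frame matrix decides. -/
theorem bijective_germs_iff {a b : Fin n → Γ(M, U)} (ha : IsFrame a) {x : X} (hx : x ∈ U)
    (c : Matrix (Fin n) (Fin n) (X.presheaf.stalk x))
    (hc : ∀ i, mgerm M hx (b i) = ∑ j, c i j • mgerm M hx (a j)) :
    (Function.Bijective fun σ : Fin n → X.presheaf.stalk x => ∑ i, σ i • mgerm M hx (b i)) ↔ IsUnit c.det := by
  classical
  have h : (fun σ : Fin n → X.presheaf.stalk x => ∑ i, σ i • mgerm M hx (b i)) =
      (fun τ : Fin n → X.presheaf.stalk x => ∑ j, τ j • mgerm M hx (a j)) ∘ fun σ => Matrix.vecMul σ c := by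
    funext σ
    simp only [Function.comp_apply, hc, Finset.smul_sum, smul_smul, Matrix.vecMul, dotProduct, Finset.sum_smul]
    exact Finset.sum_comm
  rw [h, Function.Bijective.of_comp_iff' (ha x hx)]
  refine ⟨fun hb => ?_, fun hu => ?_⟩
  · choose B hB using fun j => hb.2 (Pi.single j 1)
    have hBc : (Matrix.of B) * c = 1 := by
      ext i j
      rw [Matrix.mul_apply, Matrix.one_apply]
      have := congrFun (hB i) j
      simp only [Matrix.vecMul, dotProduct] at this
      simp only [Matrix.of_apply]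
      rw [this, Pi.single_apply]
      simp only [eq_comm]
    exact IsUnit.of_mul_eq_one_right _ (by rw [← Matrix.det_mul, hBc, Matrix.det_one])
  · refine ⟨fun σ τ hστ => ?_, fun τ => ⟨Matrix.vecMul τ c⁻¹, ?_⟩⟩
    · have := congrArg (fun v => Matrix.vecMul v c⁻¹) hστ
      simpa [Matrix.vecMul_vecMul, Matrix.mul_nonsing_inv c hu] using this
    · simp [Matrix.vecMul_vecMul, Matrix.nonsing_inv_mul c hu]

/-- Lengths of frames at a point agree. -/
theorem frame_card_unique {m : ℕ} {V : X.Opens} {a : Fin n → Γ(M, U)} (ha : IsFrame a) {b : Fin m → Γ(M, V)}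
    (hb : IsFrame b) {x : X} (hx : x ∈ U) (hx' : x ∈ V) : n = m := by
  have mk : ∀ {k : ℕ} {W : X.Opens} {e : Fin k → Γ(M, W)} (_ : IsFrame e) (h : x ∈ W),
      Nonempty ((Fin k → X.presheaf.stalk x) ≃ₗ[X.presheaf.stalk x] M.presheaf.stalk x) := fun {k W e} he h =>
    ⟨LinearEquiv.ofBijective
      { toFun := fun c : Fin k → X.presheaf.stalk x => ∑ i, c i • mgerm M h (e i)
        map_add' := fun a b => by simp only [Pi.add_apply, add_smul, Finset.sum_add_distrib]
        map_smul' := fun r a => by simp only [Pi.smul_apply, smul_eq_mul, mul_smul, Finset.smul_sum, RingHom.id_apply] }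
      (he x h)⟩
  obtain ⟨φ⟩ := mk ha hx
  obtain ⟨ψ⟩ := mk hb hx'
  simpa using (φ.trans ψ.symm).finrank_eq

/-- The standard frame of a free module. -/
theorem isFrame_freeMod (Z : Scheme.{u}) (n : ℕ) :
    IsFrame (N := FlatMod.freeMod Z n) (U := (⊤ : Z.Opens))
      fun i => (Sigma.ι (fun _ : Fin n => Coh.structureModule Z) i).app ⊤ (1 : Γ(Z, ⊤)) := by
  classical
  refine isFrame_of_bijective fun V hV => ?_
  let F : Fin n → Z.Modules := fun _ => Coh.structureModule Z
  let p : ∀ j, (∐ F) ⟶ Coh.structureModule Z := fun j =>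
    Sigma.desc fun i => if i = j then 𝟙 (Coh.structureModule Z) else 0
  have hp : ∀ i j, Sigma.ι F i ≫ p j = if i = j then 𝟙 (Coh.structureModule Z) else 0 := fun i j =>
    Sigma.ι_desc _ _
  have htot : ∑ j, p j ≫ Sigma.ι F j = 𝟙 (∐ F) := Sigma.hom_ext _ _ fun i => by
    rw [Preadditive.comp_sum, Category.comp_id, Finset.sum_eq_single i (fun j _ hj => by
      rw [← Category.assoc, hp, if_neg (Ne.symm hj), zero_comp]) (fun h => absurd (Finset.mem_univ i) h),
      ← Category.assoc, hp, if_pos rfl, Category.id_comp]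
  have hcomb : ∀ (c : Fin n → Γ(Z, V)),
      (∑ i, c i • res (∐ F) hV ((Sigma.ι F i).app ⊤ (1 : Γ(Z, ⊤)))) =
        ∑ i, (Sigma.ι F i).app V (show Γ(Coh.structureModule Z, V) from c i) := fun c => by
    refine Finset.sum_congr rfl fun i _ => ?_
    rw [app_res, ← Scheme.Modules.Hom.app_smul]
    refine congrArg _ ?_
    change c i * (Z.presheaf.map (homOfLE hV).op).hom 1 = c i
    rw [map_one, mul_one]
  have happ : ∀ (j : Fin n) (c : Fin n → Γ(Z, V)),
      (p j).app V (∑ i, c i • res (∐ F) hV ((Sigma.ι F i).app ⊤ (1 : Γ(Z, ⊤)))) = c j := fun j c => by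
    rw [hcomb, map_sum, Finset.sum_eq_single j (fun i _ hi => ?_) (fun h => absurd (Finset.mem_univ j) h)]
    · exact congr(($(hp j j)).app V (show Γ(Coh.structureModule Z, V) from c j)).trans (by rw [if_pos rfl]; rfl)
    · exact congr(($(hp i j)).app V (show Γ(Coh.structureModule Z, V) from c i)).trans (by rw [if_neg hi]; rfl)
  refine ⟨fun c c' h => funext fun j => ?_, fun t => ⟨fun j => (p j).app V t, ?_⟩⟩
  · rw [← happ j c, ← happ j c']
    exact congrArg _ h
  · refine (hcomb _).trans ?_
    have h := congr(($htot).app V t)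
    have hsum : ∀ (g : Fin n → ((∐ F) ⟶ (∐ F))), (∑ i, g i).app V t = ∑ i, (g i).app V t := fun g => by
      induction (Finset.univ : Finset (Fin n)) using Finset.induction_on with
      | empty => simp
      | insert a s ha ih => rw [Finset.sum_insert ha, Finset.sum_insert ha, ← ih]; rfl
    rw [hsum] at h
    exact h

/-- A frame trivialises the module. -/
theorem nonempty_iso_free (j : Y ⟶ X) [IsOpenImmersion j] (hU : j.opensRange ≤ U) {e : Fin n → Γ(M, U)}
    (he : IsFrame e) : Nonempty (M.restrict j ≅ FlatMod.freeMod Y n) := by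
  classical
  let φ : FlatMod.freeMod Y n ⟶ M.restrict j := Sigma.desc fun i => InvGen.ofGen j M hU (e i)
  have hfr := isFrame_freeMod Y n
  haveI : IsIso φ := by
    rw [Scheme.Modules.Hom.isIso_iff_isIso_app]
    intro W
    rw [ConcreteCategory.isIso_iff_bijective]
    refine (Function.Bijective.of_comp_iff _ ⟨hfr.comb_injective (le_top : W ≤ ⊤), hfr.comb_surjective le_top⟩).1 ?_
    have hle := (j.image_le_opensRange W).trans hU
    have heq : ((φ.app W) ∘ fun c : Fin n → Γ(Y, W) => ∑ i, c i • res (FlatMod.freeMod Y n) (le_top : W ≤ ⊤)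
          ((Sigma.ι (fun _ : Fin n => Coh.structureModule Y) i).app ⊤ (1 : Γ(Y, ⊤)))) =
        (fun c : Fin n → Γ(X, j ''ᵁ W) => (∑ i, c i • res M hle (e i) : Γ(M, j ''ᵁ W))) ∘
          fun c i => (j.appIso W).inv.hom (c i) := by
      funext c
      simp only [Function.comp_apply, map_sum]
      refine Finset.sum_congr rfl fun i _ => ?_
      rw [app_res, ← Scheme.Modules.Hom.app_smul]
      refine (congr(($(Sigma.ι_desc (fun k => InvGen.ofGen j M hU (e k)) i)).app W _)).trans ?_
      change (j.appIso W).inv.hom (c i * (Y.presheaf.map (homOfLE (le_top : W ≤ ⊤)).op).hom 1) • res M hle (e i) = _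
      rw [map_one, mul_one]
    rw [heq]
    exact Function.Bijective.comp ⟨he.comb_injective hle, he.comb_surjective hle⟩
      (Function.Bijective.piMap fun _ => ConcreteCategory.bijective_of_isIso (j.appIso W).inv)
  exact ⟨(asIso φ).symm⟩

/-- Local frames give local freeness. -/
theorem isFinLocFreeOfRank_of_frames (h : ∀ x : X, ∃ (U : X.Opens) (e : Fin n → Γ(M, U)), x ∈ U ∧ IsFrame e) :
    FlatMod.IsFinLocFreeOfRank n M := fun x => by
  obtain ⟨U, e, hx, he⟩ := h x
  exact ⟨U, hx, nonempty_iso_free U.ι U.opensRange_ι.le he⟩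

end Groth.Agent.W7Strat
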