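import Groth.Agent.W7Strat.Triv
import Groth.Agent.W7Cech.UnitIso
import Groth.Agent.Intersect.Misc
import Groth.Agent.W7See.Trivial
import Groth.Agent.W7Cube.GroupBase

/-!
Invertible modules from the base and base change in degree zero.
-/

set_option autoImplicit false
set_option backward.isDefEq.respectTransparency false
set_option backward.isDefEq.respectTransparency.types false
set_option linter.style.haveILetI false
set_option maxHeartbeats 2000000

universe u

open CategoryTheory CategoryTheory.Limits AlgebraicGeometry TopologicalSpace Opposite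
open Groth.Agent.W7Cech
open Groth.Agent.QC (res res_res res_self)
open TMul (IsFrame IsGen)

noncomputable section

namespace Groth.Agent.W7Strat

variable {X S : Scheme.{u}} (f : X ⟶ S) [IsProper f] [LocallyOfFinitePresentation f]

/-- A local generator over the base makes `T⁰` right exact nearby. -/
theorem exists_nhd_epi_of_gen [GeometricallyConnected f] [GeometricallyReduced f] {E : X.Modules}
    (hE : PicF.IsInvertible E) (hq : Coh.IsQCoh E) (hF : CohB1.IsFP E) (hfl : FlatMod.IsFlatOver f E) {t : S} {V : S.Opens} (ht : t ∈ V)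
    {g : Γ(E, f ⁻¹ᵁ V)} (hg : IsGen g) :
    ∃ W : S.Opens, t ∈ W ∧ ∀ (U : S.Opens) (hU : IsAffineOpen U), U ≤ W → ∀ m : ModelNN f E hU,
      (CohIII.TFun m.L 0).PreservesEpimorphisms := by
  obtain ⟨U, hU, htU, hUV⟩ := exists_isAffineOpen_mem_and_subset (X := S) (x := t) (U := V) ht
  let ι := f.fiberι t
  let ft := f.fiberToSpecResidueField t
  let g' : Γ(E, f ⁻¹ᵁ U) := res E (f.preimage_mono hUV) g
  have hg' : IsGen g' := hg.res _
  have hle : ft ⁻¹ᵁ ⊤ ≤ ι ⁻¹ᵁ (f ⁻¹ᵁ U) := fun z _ => by
    change f (f.fiberι t z) ∈ U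
    rw [← Scheme.Hom.comp_apply, Scheme.Hom.fiber_fac, Scheme.Hom.comp_apply, Scheme.fromSpecResidueField_apply]
    exact htU
  have hspan : SpanAt f E ft ι U ⊤ hle := by
    refine eq_top_iff.2 fun x _ => ?_
    have hgp : IsGen (ModDesc.pullSectLE ι E (f ⁻¹ᵁ U) (ft ⁻¹ᵁ ⊤) hle g') := by
      rw [ModDesc.pullSectLE_apply]
      exact (SymAlg.isGen_pullθ ι (Iso.refl ((Scheme.Modules.pullback ι).obj E))
        (PicLoc.isInvertible_pullback ι hE) hq g' hg').res hle
    obtain ⟨c, hc⟩ := (hgp _ le_rfl).2 (show Γ((Scheme.Modules.pullback ι).obj E, ft ⁻¹ᵁ ⊤) from x)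
    have hbt : Function.Bijective (ft.app ⊤).hom :=
      (Function.Bijective.of_comp_iff _ (ConcreteCategory.bijective_of_isIso
        (Scheme.ΓSpecIso (S.residueField t)).inv)).1 (W7See.bijective_fiber f t)
    obtain ⟨b, hb⟩ := hbt.2 c
    have hx : x = b • (show (SM ft ((Scheme.Modules.pullback ι).obj E) (ft ⁻¹ᵁ ⊤) le_rfl : Type u) from
        ModDesc.pullSectLE ι E (f ⁻¹ᵁ U) (ft ⁻¹ᵁ ⊤) hle g') := by
      refine hc.symm.trans ?_
      change c • res _ le_rfl _ = _
      rw [QC.res_self, ← hb, ft.app_eq_appLE]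
      rfl
    rw [hx]
    exact Submodule.smul_mem _ _ (Submodule.subset_span ⟨g', rfl⟩)
  obtain ⟨W, htW, -, hW⟩ := exists_nhd_epi_of_spanAt f E hq hF hfl t hU htU hle hspan
  exact ⟨W, htW, hW⟩

omit [IsProper f] [LocallyOfFinitePresentation f] in
/-- A tensor inverse has generators where the module has. -/
theorem exists_gen_inverse {L M : X.Modules} (hL : PicF.IsInvertible L) (hM : PicF.IsInvertible M)
    (ε : CohB1.tensorMod L M ≅ Coh.structureModule X) {V : S.Opens} {g : Γ(L, f ⁻¹ᵁ V)} (hg : IsGen g) :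
    ∃ g' : Γ(M, f ⁻¹ᵁ V), IsGen g' := by
  let W := f ⁻¹ᵁ V
  letI := W7Cube.law W.toScheme
  letI := W7Cube.law X
  obtain ⟨i⟩ := InvGen.nonempty_iso W.ι L W.opensRange_ι.le g hg
  have h1 : W7Cube.pull W.ι (PicGrp.cls L hL) = 1 := by
    rw [W7Cube.pull_cls, PicGrp.cls_eq_one_iff]
    exact ⟨((Scheme.Modules.restrictFunctorIsoPullback W.ι).app L).symm ≪≫ i⟩
  have h2 : PicGrp.cls L hL * PicGrp.cls M hM = 1 := (PicGrp.cls_mul_cls_eq_one_iff hL hM).2 ⟨ε⟩
  have h3 := congrArg (W7Cube.pull W.ι) h2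
  rw [map_mul, h1, _root_.one_mul, map_one, W7Cube.pull_cls, PicGrp.cls_eq_one_iff] at h3
  exact W7Cube.exists_gen_of_iso_preimage f V M h3.some

omit [IsProper f] [LocallyOfFinitePresentation f] in
/-- Bijective sections give the structure isomorphism. -/
theorem push_structure_iso (hb : ∀ W : S.Opens, Function.Bijective (f.app W).hom) :
    Nonempty ((Coh.push f).obj (Coh.structureModule X) ≅ Coh.structureModule S) := by
  let φ : Coh.structureModule S ⟶ (Scheme.Modules.pushforward f).obj (Coh.structureModule X) :=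
    SheafOfModules.unitToPushforwardObjUnit f.toRingCatSheafHom
  haveI : IsIso φ := by
    rw [Scheme.Modules.Hom.isIso_iff_isIso_app]
    intro W
    rw [ConcreteCategory.isIso_iff_bijective]
    exact hb W
  exact ⟨(asIso φ).symm⟩

end Groth.Agent.W7Strat
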