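import Groth.Agent.W7Strat.Model
import Groth.Agent.W7Cech.BC0Epi
import Groth.Agent.W7Cech.NNStatements
import Groth.Agent.ModDesc.LocFreeDesc
import Groth.Agent.FibDepth.Global

/-!
When the direct image is locally free of rank `r` with base change in degree zero.
-/

set_option autoImplicit false
set_option backward.isDefEq.respectTransparency false
set_option backward.isDefEq.respectTransparency.types false
set_option linter.style.haveILetI false
set_option maxHeartbeats 2000000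

universe u

open CategoryTheory CategoryTheory.Limits AlgebraicGeometry TopologicalSpace Opposite
open Groth.Agent.FlatCx Groth.Agent.W7Cech
open Groth.Agent.QC (res res_res res_self)
open scoped TensorProduct

noncomputable section

namespace Groth.Agent.W7Strat

variable {X S : Scheme.{u}} (f : X ⟶ S) [IsProper f] [LocallyOfFinitePresentation f] {F : X.Modules}
  [HasInjectiveResolutions X.Modules]

/-- The fibre rank is that of the corepresenting module. -/
theorem fiberRank_eq_finrank_corep {U : S.Opens} {hU : IsAffineOpen U} (m : ModelNN f F hU)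
    (Q : ModuleCat.{u} Γ(S, U)) [Module.Finite Γ(S, U) Q]
    (η : CohIII.TFun m.L 0 ≅ (linearCoyoneda Γ(S, U) (ModuleCat.{u} Γ(S, U))).obj (op Q))
    (x : PrimeSpectrum Γ(S, U)) :
    CohIII.fiberRank f F 0 (hU.fromSpec x) =
      Module.finrank x.asIdeal.ResidueField (x.asIdeal.ResidueField ⊗[Γ(S, U)] Q) :=
  (m.hrk 0 x).trans (W7See.finrank_tensor_eq_dRank m.L m.hL Q 0 η x).symm

/-- Base change where `T⁰` is right exact near each point. -/
theorem isIso_bc0_of_forall_epi (hq : Coh.IsQCoh F) (hfl : FlatMod.IsFlatOver f F)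
    (he : ∀ s : S, ∃ (U : S.Opens) (hU : IsAffineOpen U) (m : ModelNN f F hU),
      s ∈ U ∧ (CohIII.TFun m.L 0).PreservesEpimorphisms)
    {T X' : Scheme.{u}} (g : T ⟶ S) (f' : X' ⟶ T) (g' : X' ⟶ X) (hsq : IsPullback g' f' f g) :
    IsIso (CohBC.bc0 f g f' g' hsq.w F) := by
  haveI : F.IsQuasicoherent := hq
  haveI : IsProper f' := MorphismProperty.of_isPullback (P := @IsProper) hsq ‹_›
  haveI : ((Scheme.Modules.pullback g').obj F).IsQuasicoherent := QC.isQCoh_pullback g' hq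
  refine RelTilde.isIso_adjunct g (CohBC.bc0Adj f g f' g' hsq.w F)
    (QC.isQCoh_pushforward f) (QC.isQCoh_pushforward f') fun x => ?_
  obtain ⟨U, hU, m, hxU, hm⟩ := he (g x)
  obtain ⟨V, hV, hxV, hVU⟩ := exists_isAffineOpen_mem_and_subset (x := x) (U := g ⁻¹ᵁ U) hxU
  exact ⟨U, hU, V, hV, hVU, hxV, isBC_bc0Adj f hq hfl hU m hm hsq hV hVU⟩

/-- A near point gives right exactness and the free rank. -/
theorem exists_nhd_good (hq : Coh.IsQCoh F) (hF : CohB1.IsFP F) (hfl : FlatMod.IsFlatOver f F) (s : S)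
    (he : Epi (CohBC.bc0 f (S.fromSpecResidueField s) (f.fiberToSpecResidueField s) (f.fiberι s) (f.fiber_fac s) F)) :
    ∃ W : S.Opens, s ∈ W ∧ (∀ (U : S.Opens) (hU : IsAffineOpen U), U ≤ W → ∀ m : ModelNN f F hU,
      (CohIII.TFun m.L 0).PreservesEpimorphisms) ∧
      ∀ z ∈ W, ∃ U : S.Opens, z ∈ U ∧
        Nonempty (((Coh.push f).obj F).restrict U.ι ≅ FlatMod.freeMod (↑U) (CohIII.fiberRank f F 0 z)) := by
  obtain ⟨W, hsW, hW⟩ := exists_nhd_epi f F hq hF hfl s he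
  refine ⟨W, hsW, hW, fun z hz => ?_⟩
  obtain ⟨U, hyU, -, ⟨e⟩⟩ := locFree_of_good_nn f hq hF hfl 0 W (fun V hV hVW m => by
    have hm : (CohIII.TFun m.L ((0 : ℕ) : ℤ)).PreservesMonomorphisms :=
      (T_epi_iff_mono_succ m.L (flatX m.L m.hL) (-1)).1
        (isZero_T_of_isZero_homology_all m.L (m.hneg (-1) (by omega))).2
    exact good_of_exact m.L m.hL _ hm (hW V hV hVW m)) z hz
  exact ⟨U, hyU, ⟨(Scheme.Modules.restrictFunctor U.ι).mapIso
    (((Coh.push f).rightDerivedZeroIsoSelf).app F).symm ≪≫ e⟩⟩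

/-- **The criterion.** -/
theorem push_iff (hq : Coh.IsQCoh F) (hF : CohB1.IsFP F) (hfl : FlatMod.IsFlatOver f F) (r : ℕ) :
    (FlatMod.IsFinLocFreeOfRank r ((Scheme.Modules.pushforward f).obj F) ∧
      ∀ ⦃X' T : Scheme.{u}⦄ (g' : X' ⟶ X) (f' : X' ⟶ T) (g : T ⟶ S) (h : IsPullback g' f' f g),
        IsIso (CohBC.bc0 f g f' g' h.w F)) ↔
    ∀ s : S, ∃ (U : S.Opens) (hU : IsAffineOpen U) (m : ModelNN f F hU) (Q : ModuleCat.{u} Γ(S, U)),
      s ∈ U ∧ Module.FinitePresentation Γ(S, U) Q ∧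
      Nonempty (CohIII.TFun m.L 0 ≅ (linearCoyoneda Γ(S, U) (ModuleCat.{u} Γ(S, U))).obj (op Q)) ∧
      Module.Projective Γ(S, U) Q ∧ ∀ x : PrimeSpectrum Γ(S, U),
        Module.finrank x.asIdeal.ResidueField (x.asIdeal.ResidueField ⊗[Γ(S, U)] (Q : Type u)) = r := by
  have hepi : (∀ ⦃X' T : Scheme.{u}⦄ (g' : X' ⟶ X) (f' : X' ⟶ T) (g : T ⟶ S) (h : IsPullback g' f' f g),
      IsIso (CohBC.bc0 f g f' g' h.w F)) → ∀ s : S,
      Epi (CohBC.bc0 f (S.fromSpecResidueField s) (f.fiberToSpecResidueField s) (f.fiberι s) (f.fiber_fac s) F) :=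
    fun h s => by
      haveI := h (f.fiberι s) (f.fiberToSpecResidueField s) (S.fromSpecResidueField s)
        (IsPullback.of_hasPullback f (S.fromSpecResidueField s))
      infer_instance
  constructor
  · rintro ⟨hfree, hbc⟩ s
    obtain ⟨W, hsW, hW, hWfree⟩ := exists_nhd_good f hq hF hfl s (hepi hbc s)
    obtain ⟨U, hU, hsU, hUW⟩ := exists_isAffineOpen_mem_and_subset (X := S) (x := s) (U := W) hsW
    obtain ⟨m⟩ := nonempty_ModelNN f hq hF hfl hU
    obtain ⟨Q, hQ, ⟨η⟩⟩ := exists_corep_model f m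
    haveI := hQ
    refine ⟨U, hU, m, Q, hsU, hQ, ⟨η⟩, (projective_iff_preservesEpi m.L Q η).2 (hW U hU hUW m), fun x => ?_⟩
    rw [← fiberRank_eq_finrank_corep f m Q η x]
    obtain ⟨U₁, h1, ⟨e₁⟩⟩ := hWfree (hU.fromSpec x) (hUW (fromSpec_mem hU x))
    obtain ⟨U₂, h2, ⟨e₂⟩⟩ := hfree (hU.fromSpec x)
    exact ModDesc.rank_unique e₁ e₂ h1 h2
  · intro h
    have hbc : ∀ ⦃X' T : Scheme.{u}⦄ (g' : X' ⟶ X) (f' : X' ⟶ T) (g : T ⟶ S) (h : IsPullback g' f' f g),
        IsIso (CohBC.bc0 f g f' g' h.w F) := fun X' T g' f' g hsq =>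
      isIso_bc0_of_forall_epi f hq hfl (fun s => by
        obtain ⟨U, hU, m, Q, hsU, -, ⟨η⟩, hP, -⟩ := h s
        exact ⟨U, hU, m, hsU, (projective_iff_preservesEpi m.L Q η).1 hP⟩) g f' g' hsq
    refine ⟨fun s => ?_, hbc⟩
    obtain ⟨W, hsW, -, hWfree⟩ := exists_nhd_good f hq hF hfl s (hepi hbc s)
    obtain ⟨U₁, h1, e₁⟩ := hWfree s hsW
    obtain ⟨U, hU, m, Q, hsU, hQ, ⟨η⟩, -, hr⟩ := h s
    haveI := hQ
    have hrk : CohIII.fiberRank f F 0 s = r := by
      rw [← show hU.fromSpec (hU.primeIdealOf ⟨s, hsU⟩) = s from hU.fromSpec_primeIdealOf ⟨s, hsU⟩,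
        fiberRank_eq_finrank_corep f m Q η, hr]
    exact ⟨U₁, h1, hrk ▸ e₁⟩

end Groth.Agent.W7Strat
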