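import Groth.Agent.FpqcDescent.IdealGlue
import Mathlib.AlgebraicGeometry.Sites.Fpqc

/-!
Locally closed subschemes from local closed pieces with a universal property.
-/

set_option autoImplicit false
set_option backward.isDefEq.respectTransparency false
set_option backward.isDefEq.respectTransparency.types false
set_option linter.style.haveILetI false
set_option maxHeartbeats 2000000

universe u

open CategoryTheory CategoryTheory.Limits AlgebraicGeometry TopologicalSpace

noncomputable section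

namespace Groth.Agent.W7Strat

/-- Factoring through a closed immersion is an inclusion of kernels. -/
lemma factors_iff_ker_le {Z W T : Scheme.{u}} (c : Z ⟶ W) [IsClosedImmersion c] (v : T ⟶ W) :
    (∃ w : T ⟶ Z, w ≫ c = v) ↔ c.ker ≤ v.ker :=
  ⟨fun ⟨w, hw⟩ => hw ▸ Scheme.Hom.le_ker_comp w c,
    fun h => ⟨IsClosedImmersion.lift c v h, IsClosedImmersion.lift_fac _ _ _⟩⟩

/-- **Gluing of closed pieces.** -/
theorem exists_glue {S : Scheme.{u}} (Φ : ∀ {T : Scheme.{u}}, (T ⟶ S) → Prop)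
    (hcomp : ∀ {T T' : Scheme.{u}} {u : T ⟶ S} (w : T' ⟶ T), Φ u → Φ (w ≫ u))
    (hlocal : ∀ {T : Scheme.{u}} {u : T ⟶ S}, (∀ t : T, ∃ U : T.Opens, t ∈ U ∧ Φ (U.ι ≫ u)) → Φ u)
    (U₀ : S.Opens) (hU₀ : ∀ {T : Scheme.{u}} (u : T ⟶ S), Φ u → ∀ t, u t ∈ U₀)
    {J : Type u} (D : J → S.Opens) (hD : ∀ j, D j ≤ U₀) (hcov : ∀ s ∈ U₀, ∃ j, s ∈ D j)
    (Z : J → Scheme.{u}) (c : ∀ j, Z j ⟶ (D j).toScheme) [∀ j, IsClosedImmersion (c j)]
    (hc : ∀ (j : J) (T : Scheme.{u}) (v : T ⟶ (D j).toScheme), (∃ w, w ≫ c j = v) ↔ Φ (v ≫ (D j).ι)) :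
    ∃ (Z₀ : Scheme.{u}) (c₀ : Z₀ ⟶ U₀.toScheme), IsClosedImmersion c₀ ∧
      (∀ (T : Scheme.{u}) (u : T ⟶ S), (∃ u' : T ⟶ Z₀, u' ≫ c₀ ≫ U₀.ι = u) ↔ Φ u) ∧
      ((∀ j, LocallyOfFinitePresentation (c j)) → LocallyOfFinitePresentation c₀) := by
  let g : ∀ j, (D j).toScheme ⟶ U₀.toScheme := fun j => S.homOfLE (hD j)
  have hgι : ∀ j, g j ≫ U₀.ι = (D j).ι := fun j => S.homOfLE_ι _
  have hsurj : ∀ z : U₀.toScheme, ∃ j, z ∈ Set.range (g j) := fun z => by
    obtain ⟨j, hj⟩ := hcov (U₀.ι z) z.2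
    refine ⟨j, ⟨_, hj⟩, U₀.ι.isOpenEmbedding.injective ?_⟩
    rw [← Scheme.Hom.comp_apply, hgι]
    rfl
  have hg : Presieve.ofArrows (fun j => (D j).toScheme) g ∈ Scheme.fpqcPrecoverage U₀.toScheme :=
    Scheme.zariskiPrecoverage_le_fpqcPrecoverage _ ((Scheme.ofArrows_mem_precoverage_iff @IsOpenImmersion).2
      ⟨hsurj, fun j => inferInstance⟩)
  have hker : ∀ (j : J) {R T : Scheme.{u}} (w : T ⟶ R) (k : R ⟶ (D j).toScheme),
      (c j).ker.comap k ≤ w.ker ↔ Φ (w ≫ k ≫ g j ≫ U₀.ι) := by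
    intro j R T w k
    rw [hgι, ← Category.assoc, ← hc j T (w ≫ k), factors_iff_ker_le, ← Scheme.IdealSheafData.map_ker,
      ← Scheme.IdealSheafData.le_map_iff_comap_le]
  have hcompat : ∀ i j, (c i).ker.comap (pullback.fst (g i) (g j)) = (c j).ker.comap (pullback.snd (g i) (g j)) := by
    intro i j
    have e : pullback.fst (g i) (g j) ≫ g i ≫ U₀.ι = pullback.snd (g i) (g j) ≫ g j ≫ U₀.ι :=
      pullback.condition_assoc _
    refine le_antisymm ?_ ?_
    · let B := (c j).ker.comap (pullback.snd (g i) (g j))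
      have h := (hker j B.subschemeι (pullback.snd (g i) (g j))).1 B.ker_subschemeι.ge
      rw [← e] at h
      exact ((hker i B.subschemeι (pullback.fst (g i) (g j))).2 h).trans B.ker_subschemeι.le
    · let B := (c i).ker.comap (pullback.fst (g i) (g j))
      have h := (hker i B.subschemeι (pullback.fst (g i) (g j))).1 B.ker_subschemeι.ge
      rw [e] at h
      exact ((hker j B.subschemeι (pullback.snd (g i) (g j))).2 h).trans B.ker_subschemeι.le
  obtain ⟨K, hK, -⟩ := FpqcDescent.existsUnique_descent hg (fun j => (c j).ker) hcompat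
  have key : ∀ (T : Scheme.{u}) (v : T ⟶ U₀.toScheme), K ≤ v.ker ↔ Φ (v ≫ U₀.ι) := by
    intro T v
    let p : ∀ j, pullback v (g j) ⟶ T := fun j => pullback.fst v (g j)
    let q : ∀ j, pullback v (g j) ⟶ (D j).toScheme := fun j => pullback.snd v (g j)
    have hpq : ∀ j, p j ≫ v = q j ≫ g j := fun j => pullback.condition
    have hpsurj : ∀ t : T, ∃ j, t ∈ Set.range (p j) := fun t => by
      obtain ⟨j, d, hd⟩ := hsurj (v t)
      obtain ⟨z, hz, -⟩ := Scheme.Pullback.exists_preimage_pullback t d hd.symm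
      exact ⟨j, z, hz⟩
    have hT : Presieve.ofArrows (fun j => pullback v (g j)) p ∈ Scheme.zariskiPrecoverage T :=
      (Scheme.ofArrows_mem_precoverage_iff @IsOpenImmersion).2 ⟨hpsurj, fun j => inferInstance⟩
    have hloc : ∀ j, (K.comap v).comap (p j) = (c j).ker.comap (q j) := fun j => by
      rw [← hK j, ← Scheme.IdealSheafData.comap_comp, ← Scheme.IdealSheafData.comap_comp, hpq]
    have hiff : ∀ j, (c j).ker.comap (q j) = ⊥ ↔ Φ (p j ≫ v ≫ U₀.ι) := fun j => by
      rw [← le_bot_iff, ← Scheme.IdealSheafData.le_map_iff_comap_le, Scheme.IdealSheafData.map_bot,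
        ← factors_iff_ker_le, hc, ← hgι, ← Category.assoc, ← hpq, Category.assoc]
    rw [← Scheme.IdealSheafData.map_bot, Scheme.IdealSheafData.le_map_iff_comap_le, le_bot_iff]
    refine ⟨fun h => hlocal fun t => ?_, fun h => ?_⟩
    · obtain ⟨j, z, hz⟩ := hpsurj t
      refine ⟨(p j).opensRange, ⟨z, hz⟩, ?_⟩
      have h1 := hcomp (p j).isoOpensRange.inv ((hiff j).1 (by rw [← hloc, h, Scheme.IdealSheafData.comap_bot]))
      rwa [← Category.assoc, Scheme.Hom.isoOpensRange_inv_comp] at h1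
    · have hbot : ∀ j, (K.comap v).comap (p j) = ⊥ := fun j => by rw [hloc, hiff]; exact hcomp _ h
      obtain ⟨I, -, huniq⟩ := FpqcDescent.existsUnique_descent (g := p)
        (Scheme.zariskiPrecoverage_le_fpqcPrecoverage _ hT) (fun _ => ⊥)
        (fun _ _ => by rw [Scheme.IdealSheafData.comap_bot, Scheme.IdealSheafData.comap_bot])
      exact (huniq _ hbot).trans (huniq ⊥ fun j => Scheme.IdealSheafData.comap_bot _).symm
  have hfac : ∀ (T : Scheme.{u}) (v : T ⟶ U₀.toScheme), (∃ w, w ≫ K.subschemeι = v) ↔ Φ (v ≫ U₀.ι) := fun T v => by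
    rw [factors_iff_ker_le, K.ker_subschemeι]
    exact key T v
  refine ⟨K.subscheme, K.subschemeι, inferInstance, fun T u => ⟨?_, fun h => ?_⟩, fun hlfp => ?_⟩
  · rintro ⟨u', rfl⟩
    have := (hfac T (u' ≫ K.subschemeι)).1 ⟨u', rfl⟩
    rwa [Category.assoc] at this
  · let v : T ⟶ U₀.toScheme := IsOpenImmersion.lift U₀.ι u (by
      rw [Scheme.Opens.range_ι]
      rintro _ ⟨t, rfl⟩
      exact hU₀ u h t)
    have hv : v ≫ U₀.ι = u := IsOpenImmersion.lift_fac _ _ _
    obtain ⟨w, hw⟩ := (hfac T v).2 (hv ▸ h)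
    exact ⟨w, by rw [← Category.assoc, hw, hv]⟩
  · let 𝒰 : U₀.toScheme.OpenCover := Scheme.Cover.mkOfCovers J (fun j => (D j).toScheme) g hsurj
      (fun j => inferInstanceAs (IsOpenImmersion (g j)))
    refine IsZariskiLocalAtTarget.of_openCover (P := @LocallyOfFinitePresentation) 𝒰 fun j => ?_
    change LocallyOfFinitePresentation (pullback.snd K.subschemeι (g j))
    obtain ⟨e, he⟩ : ∃ e : Z j ⟶ K.subscheme, e ≫ K.subschemeι = c j ≫ g j := (hfac _ _).2 (by
      rw [Category.assoc, hgι]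
      exact (hc j _ (c j)).1 ⟨𝟙 _, Category.id_comp _⟩)
    have hl : ∀ {T : Scheme.{u}} (a : T ⟶ K.subscheme) (b : T ⟶ (D j).toScheme), a ≫ K.subschemeι = b ≫ g j →
        ∃ w, w ≫ c j = b := fun {T} a b hab => (hc j _ b).2 (by
      have := (hfac _ _).1 ⟨a, hab⟩
      rwa [Category.assoc, hgι] at this)
    have hP : IsPullback e (c j) K.subschemeι (g j) := by
      refine ⟨⟨he⟩, ⟨PullbackCone.IsLimit.mk _ (fun s => (hl s.fst s.snd s.condition).choose) (fun s => ?_)
        (fun s => (hl s.fst s.snd s.condition).choose_spec) (fun s m _ hm => ?_)⟩⟩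
      · rw [← cancel_mono K.subschemeι, Category.assoc, he, ← Category.assoc,
          (hl s.fst s.snd s.condition).choose_spec]
        exact s.condition.symm
      · rw [← cancel_mono (c j), (hl s.fst s.snd s.condition).choose_spec]
        exact hm
    haveI := hlfp j
    rw [← hP.isoPullback_inv_snd]
    infer_instance

end Groth.Agent.W7Strat
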