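import Groth.Agent.W7See.Fibre
import Groth.Agent.W7Hull.PushOne
import Groth.Agent.W7See.Main

/-!
Morphisms universally having only functions of the base.
-/

set_option autoImplicit false
set_option backward.isDefEq.respectTransparency false
set_option backward.isDefEq.respectTransparency.types false
set_option linter.style.haveILetI false

universe u

open CategoryTheory CategoryTheory.Limits AlgebraicGeometry

noncomputable section

namespace Groth.Agent.W7Strat

/-- After every base change the functions over an open of the base are those of the open. -/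
class UnivO {X S : Scheme.{u}} (f : X ⟶ S) : Prop where
  bij : ∀ {P T : Scheme.{u}} {u : T ⟶ S} {f' : P ⟶ T} {g' : P ⟶ X}, IsPullback g' f' f u →
    ∀ W : T.Opens, Function.Bijective (f'.app W).hom

variable {X S : Scheme.{u}} {f : X ⟶ S}

theorem univO_of_forall
    (h : ∀ (T : Scheme.{u}) (g : T ⟶ S) (U : T.Opens), IsIso ((pullback.snd f g).app U)) : UnivO f := by
  refine ⟨fun {P T u f' g'} sq W => ?_⟩
  rw [← sq.isoPullback_hom_snd, Scheme.Hom.comp_app]
  haveI := h T u W
  exact ConcreteCategory.bijective_of_isIso ((pullback.snd f u).app W ≫ sq.isoPullback.hom.app _)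

instance univO_of_geometrically [IsProper f] [Flat f] [LocallyOfFinitePresentation f] [GeometricallyConnected f]
    [GeometricallyReduced f] : UnivO f := by
  refine ⟨fun {P T u f' g'} sq W => ?_⟩
  haveI : IsProper f' := MorphismProperty.of_isPullback (P := @IsProper) sq ‹_›
  haveI : Flat f' := MorphismProperty.of_isPullback (P := @Flat) sq ‹_›
  haveI : LocallyOfFinitePresentation f' :=
    MorphismProperty.of_isPullback (P := @LocallyOfFinitePresentation) sq ‹_›
  haveI : GeometricallyConnected f' := MorphismProperty.of_isPullback (P := @GeometricallyConnected) sq ‹_›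
  haveI : GeometricallyReduced f' := MorphismProperty.of_isPullback (P := @GeometricallyReduced) sq ‹_›
  exact W7See.app_bijective_of_local f'
    (fun t => W7Hull.exists_nhd_app_bijective_of_lfp f' t (W7See.bijective_fiber f' t)) W

theorem UnivO.of_isPullback [UnivO f] {P T : Scheme.{u}} {u : T ⟶ S} {f' : P ⟶ T} {g' : P ⟶ X}
    (sq : IsPullback g' f' f u) : UnivO f' :=
  ⟨fun sq' W => UnivO.bij (sq'.paste_horiz sq) W⟩

theorem UnivO.bijective_fiber [UnivO f] (s : S) :
    Function.Bijective ((f.fiberToSpecResidueField s).appTop.hom.comp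
      (Scheme.ΓSpecIso (S.residueField s)).inv.hom) :=
  (UnivO.bij (f := f) (IsPullback.of_hasPullback f (S.fromSpecResidueField s)) ⊤).comp
    (ConcreteCategory.bijective_of_isIso (Scheme.ΓSpecIso (S.residueField s)).inv)

instance surjective_of_univO [UnivO f] : Surjective f := by
  refine ⟨fun s => ?_⟩
  haveI : Nontrivial Γ(f.fiber s, ⊤) := (UnivO.bijective_fiber (f := f) s).1.nontrivial
  obtain ⟨z⟩ : Nonempty (f.fiber s) := by
    by_contra h
    rw [not_nonempty_iff] at h
    exact not_subsingleton Γ(f.fiber s, ⊤) inferInstance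
  refine ⟨f.fiberι s z, ?_⟩
  rw [← Scheme.Hom.comp_apply, Scheme.Hom.fiber_fac, Scheme.Hom.comp_apply, Scheme.fromSpecResidueField_apply]

end Groth.Agent.W7Strat
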