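import Groth.Agent.W7Strat.Main
import Groth.Agent.W7Strat.Frame
import Groth.Agent.W7See.Fibre
import Groth.Agent.W7Hull.PushOne
import Groth.Agent.W7See.Main
import Groth.Agent.W7Strat.UnivO

/-!
Local triviality over the base of a vector bundle.
-/

set_option autoImplicit false
set_option backward.isDefEq.respectTransparency false
set_option backward.isDefEq.respectTransparency.types false
set_option linter.style.haveILetI false
set_option maxHeartbeats 2000000

universe u

open CategoryTheory CategoryTheory.Limits AlgebraicGeometry TopologicalSpace Opposite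
open Groth.Agent.W7Cech
open Groth.Agent.QC (res resO res_res res_self res_smul app_res)
open Groth.Agent.WeakAssLib (mgerm mgerm_smul mgerm_res)
open TMul (IsFrame)

noncomputable section

namespace Groth.Agent.W7Strat

variable {X S : Scheme.{u}} (f : X ⟶ S) (E : X.Modules)

/-- The bundle is free locally over the base. -/
def TrivF {T : Scheme.{u}} (u : T ⟶ S) : Prop :=
  ∀ t : T, ∃ V : T.Opens, t ∈ V ∧ ∃ (n : ℕ)
    (e : Fin n → Γ((Scheme.Modules.pullback (pullback.fst f u)).obj E, pullback.snd f u ⁻¹ᵁ V)), IsFrame e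

/-- The bundle is free of rank `n` locally over the base. -/
def TrivN (n : ℕ) {T : Scheme.{u}} (u : T ⟶ S) : Prop :=
  ∀ t : T, ∃ V : T.Opens, t ∈ V ∧
    ∃ e : Fin n → Γ((Scheme.Modules.pullback (pullback.fst f u)).obj E, pullback.snd f u ⁻¹ᵁ V), IsFrame e

variable {f E}

lemma TrivN.trivF {n : ℕ} {T : Scheme.{u}} {u : T ⟶ S} (h : TrivN f E n u) : TrivF f E u := fun t =>
  let ⟨V, ht, e, he⟩ := h t
  ⟨V, ht, n, e, he⟩

/-- Frames move along base change. -/
lemma exists_frame_comp {n : ℕ} {T T' : Scheme.{u}} {u : T ⟶ S} (w : T' ⟶ T) {V : T.Opens}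
    {g : Fin n → Γ((Scheme.Modules.pullback (pullback.fst f u)).obj E, pullback.snd f u ⁻¹ᵁ V)} (hg : IsFrame g) :
    ∃ g' : Fin n → Γ((Scheme.Modules.pullback (pullback.fst f (w ≫ u))).obj E,
      pullback.snd f (w ≫ u) ⁻¹ᵁ (w ⁻¹ᵁ V)), IsFrame g' := by
  let k : pullback f (w ≫ u) ⟶ pullback f u := pullback.lift (pullback.fst f (w ≫ u)) (pullback.snd f (w ≫ u) ≫ w)
    (by rw [pullback.condition, Category.assoc])
  refine exists_frame_pullback_comp k _ _ (pullback.lift_fst _ _ _) E hg ?_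
  rw [← Scheme.Hom.comp_preimage k, pullback.lift_snd, Scheme.Hom.comp_preimage]

lemma TrivF.comp {T T' : Scheme.{u}} {u : T ⟶ S} (h : TrivF f E u) (w : T' ⟶ T) : TrivF f E (w ≫ u) := fun t => by
  obtain ⟨V, ht, n, g, hg⟩ := h (w t)
  obtain ⟨g', hg'⟩ := exists_frame_comp w hg
  exact ⟨w ⁻¹ᵁ V, ht, n, g', hg'⟩

lemma TrivN.comp {n : ℕ} {T T' : Scheme.{u}} {u : T ⟶ S} (h : TrivN f E n u) (w : T' ⟶ T) :
    TrivN f E n (w ≫ u) := fun t => by
  obtain ⟨V, ht, g, hg⟩ := h (w t)
  obtain ⟨g', hg'⟩ := exists_frame_comp w hg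
  exact ⟨w ⁻¹ᵁ V, ht, g', hg'⟩

/-- Frames over an open of the base descend to the whole. -/
lemma exists_frame_of_restrict {T : Scheme.{u}} {u : T ⟶ S} {n : ℕ} (U : T.Opens) {V : U.toScheme.Opens}
    {g : Fin n → Γ((Scheme.Modules.pullback (pullback.fst f (U.ι ≫ u))).obj E, pullback.snd f (U.ι ≫ u) ⁻¹ᵁ V)}
    (hg : IsFrame g) :
    ∃ g' : Fin n → Γ((Scheme.Modules.pullback (pullback.fst f u)).obj E, pullback.snd f u ⁻¹ᵁ (U.ι ''ᵁ V)),
      IsFrame g' := by
  let P := pullback f u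
  let W := pullback.snd f u ⁻¹ᵁ U
  have sq : IsPullback (W.ι ≫ pullback.fst f u) (pullback.snd f u ∣_ U) f (U.ι ≫ u) :=
    ((isPullback_morphismRestrict (pullback.snd f u) U).flip).paste_horiz (IsPullback.of_hasPullback f u)
  obtain ⟨g₁, hg₁⟩ := exists_frame_pullback_comp sq.isoPullback.hom (pullback.fst f (U.ι ≫ u))
    (W.ι ≫ pullback.fst f u) sq.isoPullback_hom_fst E hg (W' := (pullback.snd f u ∣_ U) ⁻¹ᵁ V)
    (by rw [← Scheme.Hom.comp_preimage, sq.isoPullback_hom_snd])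
  let G := (Scheme.Modules.pullback (pullback.fst f u)).obj E
  let φ : (Scheme.Modules.pullback (W.ι ≫ pullback.fst f u)).obj E ≅ G.restrict W.ι :=
    ((Scheme.Modules.pullbackComp W.ι (pullback.fst f u)).app E).symm ≪≫
      ((Scheme.Modules.restrictFunctorIsoPullback W.ι).app G).symm
  have h2 := isFrame_app φ hg₁
  let O := (pullback.snd f u ∣_ U) ⁻¹ᵁ V
  have hle : pullback.snd f u ⁻¹ᵁ (U.ι ''ᵁ V) ≤ W.ι ''ᵁ O := by
    rintro p ⟨v, hv, hvp⟩
    have hp : p ∈ W := by
      change pullback.snd f u p ∈ U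
      rw [← hvp]
      exact v.2
    refine ⟨⟨p, hp⟩, ?_, rfl⟩
    change (pullback.snd f u ∣_ U) ⟨p, hp⟩ ∈ V
    have e : U.ι ((pullback.snd f u ∣_ U) ⟨p, hp⟩) = U.ι v := by
      rw [← Scheme.Hom.comp_apply, morphismRestrict_ι, Scheme.Hom.comp_apply]
      exact hvp.symm
    rw [U.ι.isOpenEmbedding.injective e]
    exact hv
  let b : Fin n → Γ(G, W.ι ''ᵁ O) := fun i => φ.hom.app O (g₁ i)
  suffices hb : IsFrame b from ⟨_, isFrame_res hb hle⟩
  refine isFrame_of_bijective fun A hA => ?_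
  obtain ⟨A', rfl⟩ : ∃ A' : W.toScheme.Opens, W.ι ''ᵁ A' = A :=
    ⟨W.ι ⁻¹ᵁ A, by
      rw [W.ι.image_preimage_eq_opensRange_inf, inf_eq_right.mpr (hA.trans (W.ι.image_le_opensRange O))]⟩
  have hA' : A' ≤ O := (W.ι.image_le_image_iff _ _).mp hA
  have hc : (fun c : Fin n → Γ(W, A') => ∑ i, c i • res (G.restrict W.ι) hA' (φ.hom.app O (g₁ i))) =
      (fun c : Fin n → Γ(P, W.ι ''ᵁ A') => (∑ i, c i • res G hA (b i) : Γ(G, W.ι ''ᵁ A'))) ∘
        fun c i => (W.ι.appIso A').inv.hom (c i) := rfl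
  have hbij : Function.Bijective (fun c : Fin n → Γ(W, A') =>
      ∑ i, c i • res (G.restrict W.ι) hA' (φ.hom.app O (g₁ i))) := ⟨h2.comb_injective hA', h2.comb_surjective hA'⟩
  rw [hc] at hbij
  exact (Function.Bijective.of_comp_iff _ (Function.Bijective.piMap fun _ =>
    ConcreteCategory.bijective_of_isIso (W.ι.appIso A').inv)).1 hbij

lemma trivF_of_local {T : Scheme.{u}} {u : T ⟶ S}
    (h : ∀ t : T, ∃ U : T.Opens, t ∈ U ∧ TrivF f E (U.ι ≫ u)) : TrivF f E u := fun t => by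
  obtain ⟨U, htU, hU⟩ := h t
  obtain ⟨V, htV, n, g, hg⟩ := hU ⟨t, htU⟩
  obtain ⟨g', hg'⟩ := exists_frame_of_restrict U hg
  exact ⟨U.ι ''ᵁ V, ⟨⟨t, htU⟩, htV, rfl⟩, n, g', hg'⟩

variable (E) in
/-- The rank of the bundle near a point. -/
def HasRank (n : ℕ) (x : X) : Prop := ∃ (W : X.Opens) (a : Fin n → Γ(E, W)), x ∈ W ∧ IsFrame a

lemma isOpen_hasRank (n : ℕ) : IsOpen {x : X | HasRank E n x} :=
  isOpen_iff_forall_mem_open.2 fun _ ⟨W, a, hx, ha⟩ => ⟨W, fun _ hy => ⟨W, a, hy, ha⟩, W.2, hx⟩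

lemma exists_hasRank (hE : FlatMod.IsFinLocFree E) (x : X) : ∃ n, HasRank E n x :=
  let ⟨W, n, a, hx, ha⟩ := TMul.exists_isFrame hE x
  ⟨n, W, a, hx, ha⟩

variable [IsProper f] [UnivO f]

lemma exists_point_over {T : Scheme.{u}} (u : T ⟶ S) (t : T) :
    ∃ y : (pullback f u : Scheme.{u}), pullback.snd f u y = t :=
  (pullback.snd f u).surjective t

/-- The rank of a local trivialisation is the rank of the bundle. -/
lemma TrivF.trivN {n : ℕ} {T : Scheme.{u}} {u : T ⟶ S} (h : TrivF f E u)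
    (hn : ∀ (t : T) (x : X), f x = u t → HasRank E n x) : TrivN f E n u := fun t => by
  obtain ⟨V, ht, m, g, hg⟩ := h t
  obtain ⟨y, hy⟩ := exists_point_over (f := f) u t
  obtain ⟨W, a, hxW, ha⟩ := hn t (pullback.fst f u y) (by
    rw [← Scheme.Hom.comp_apply, pullback.condition, Scheme.Hom.comp_apply, hy])
  obtain rfl : m = n := frame_card_unique hg (TMul.IsFrame.pullback (pullback.fst f u) ha)
    (show y ∈ pullback.snd f u ⁻¹ᵁ V by change pullback.snd f u y ∈ V; rw [hy]; exact ht) hxW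
  exact ⟨V, ht, g, hg⟩

omit [UnivO f] [IsProper f] in
/-- A trivialisation bounds the rank along the fibre. -/
lemma TrivN.hasRank (hE : FlatMod.IsFinLocFree E) {n : ℕ} {T : Scheme.{u}} {u : T ⟶ S} (h : TrivN f E n u)
    (t : T) (y : (pullback f u : Scheme.{u})) (hy : pullback.snd f u y = t) :
    HasRank E n (pullback.fst f u y) := by
  obtain ⟨V, ht, g, hg⟩ := h t
  obtain ⟨m, W, a, hxW, ha⟩ := exists_hasRank hE (pullback.fst f u y)
  obtain rfl : n = m := frame_card_unique hg (TMul.IsFrame.pullback (pullback.fst f u) ha)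
    (show y ∈ pullback.snd f u ⁻¹ᵁ V by change pullback.snd f u y ∈ V; rw [hy]; exact ht) hxW
  exact ⟨W, a, hxW, ha⟩

variable [Flat f] [LocallyOfFinitePresentation f]

lemma app_bijective {P T : Scheme.{u}} {u : T ⟶ S} {f' : P ⟶ T} {g' : P ⟶ X} (sq : IsPullback g' f' f u)
    (W : T.Opens) : Function.Bijective (f'.app W).hom :=
  UnivO.bij sq W

omit [IsProper f] [UnivO f] [Flat f] [LocallyOfFinitePresentation f] in
/-- Frames over preimages give frames of direct images. -/
lemma isFrame_push {P T : Scheme.{u}} (f' : P ⟶ T) (hb : ∀ W : T.Opens, Function.Bijective (f'.app W).hom)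
    {G : P.Modules} {n : ℕ} {V : T.Opens} {e : Fin n → Γ(G, f' ⁻¹ᵁ V)} (he : IsFrame e) :
    IsFrame (N := (Scheme.Modules.pushforward f').obj G) (U := V) e := by
  refine isFrame_of_bijective fun W hW => ?_
  have h1 : Function.Bijective fun c : Fin n → Γ(P, f' ⁻¹ᵁ W) => ∑ i, c i • res G (f'.preimage_mono hW) (e i) :=
    ⟨he.comb_injective _, he.comb_surjective _⟩
  exact h1.comp (Function.Bijective.piMap fun _ : Fin n => hb W)

/-- **Triviality over the base is being a pullback.** -/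
theorem trivF_iff_exists {T : Scheme.{u}} (u : T ⟶ S) :
    TrivF f E u ↔ ∃ M : T.Modules, FlatMod.IsFinLocFree M ∧
      Nonempty ((Scheme.Modules.pullback (pullback.fst f u)).obj E ≅
        (Scheme.Modules.pullback (pullback.snd f u)).obj M) := by
  let f' := pullback.snd f u
  let G := (Scheme.Modules.pullback (pullback.fst f u)).obj E
  constructor
  · intro h
    have hb := app_bijective (f := f) (IsPullback.of_hasPullback f u)
    let R := (Scheme.Modules.pushforward f').obj G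
    refine ⟨R, fun t => ?_, ?_⟩
    · obtain ⟨V, ht, n, e, he⟩ := h t
      exact ⟨V, n, ht, nonempty_iso_free V.ι V.opensRange_ι.le (isFrame_push f' hb he)⟩
    let M := (Scheme.Modules.pullback f').obj R
    let ε : M ⟶ G := (Scheme.Modules.pullbackPushforwardAdjunction f').counit.app G
    have hloc : ∀ x : (pullback f u : Scheme.{u}), ∃ U : (pullback f u).Opens, x ∈ U ∧
        ∀ W : (pullback f u).Opens, W ≤ U → Function.Bijective (ε.app W) := by
      intro x
      obtain ⟨V, hV, n, e, he⟩ := h (f' x)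
      refine ⟨f' ⁻¹ᵁ V, hV, fun W hW => ?_⟩
      have hM := TMul.IsFrame.pullback f' (isFrame_push f' hb he)
      have htri := (Scheme.Modules.pullbackPushforwardAdjunction f').right_triangle_components G
      let m : Fin n → Γ(M, f' ⁻¹ᵁ V) := fun i =>
        ((Scheme.Modules.pullbackPushforwardAdjunction f').unit.app R).app V (e i)
      have hval : ∀ i, ε.app (f' ⁻¹ᵁ V) (m i) = e i := fun i => congr(($htri).app V (e i))
      refine (Function.Bijective.of_comp_iff _ ⟨hM.comb_injective hW, hM.comb_surjective hW⟩).1 ?_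
      have h2 : ((ε.app W) ∘ fun c : Fin n → Γ(pullback f u, W) => ∑ i, c i • res M hW (m i)) =
          fun c => ∑ i, c i • res G hW (e i) := by
        funext c
        simp only [Function.comp_apply, map_sum, Scheme.Modules.Hom.app_smul, ← app_res, hval]
      exact h2 ▸ ⟨he.comb_injective hW, he.comb_surjective hW⟩
    haveI : Epi ε := InvGen.epi_of_locally ε fun U t y hy => by
      obtain ⟨V, hyV, hV⟩ := hloc y
      exact ⟨U ⊓ V, inf_le_left, ⟨hy, hyV⟩, (hV _ inf_le_right).2 _⟩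
    haveI : Mono ε := (QC.mono_iff_app_injective _).2 fun W s t hst => QC.section_eq_of_locally fun y hy => by
      obtain ⟨V, hyV, hV⟩ := hloc y
      refine ⟨W ⊓ V, inf_le_left, ⟨hy, hyV⟩, (hV _ inf_le_right).1 ?_⟩
      rw [← app_res ε, ← app_res ε, hst]
    haveI : IsIso ε := isIso_of_mono_of_epi ε
    exact ⟨(asIso ε).symm⟩
  · rintro ⟨M, hM, ⟨φ⟩⟩ t
    obtain ⟨V, n, e, ht, he⟩ := TMul.exists_isFrame hM t
    exact ⟨V, ht, n, _, isFrame_app φ.symm (TMul.IsFrame.pullback (pullback.snd f u) he)⟩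

/-- A trivialisation of rank `n` makes the direct image good. -/
theorem push_of_trivN {n : ℕ} {T : Scheme.{u}} {u : T ⟶ S} (h : TrivN f E n u)
    (hq : Coh.IsQCoh E) (hF : CohB1.IsFP E) (hfl : FlatMod.IsFlatOver f E) : Push f E n u := by
  let f' := pullback.snd f u
  let G := (Scheme.Modules.pullback (pullback.fst f u)).obj E
  have sq := IsPullback.of_hasPullback f u
  haveI : LocallyOfFinitePresentation f' :=
    MorphismProperty.of_isPullback (P := @LocallyOfFinitePresentation) sq ‹_›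
  haveI : Flat f' := MorphismProperty.of_isPullback (P := @Flat) sq ‹_›
  have hqG : Coh.IsQCoh G := QC.isQCoh_pullback _ hq
  have hFG : CohB1.IsFP G := ModDesc.isFP_pullback _ hq hF
  have hflG := isFlatOver_pullback hfl sq
  refine ⟨isFinLocFreeOfRank_of_frames fun t => ?_, fun X'' T' v' f'' u' hsq => ?_⟩
  · obtain ⟨V, ht, e, he⟩ := h t
    exact ⟨V, e, ht, isFrame_push f' (app_bijective (f := f) sq) he⟩
  refine isIso_bc0_of_forall_epi f' hqG hflG (fun t => ?_) u' f'' v' hsq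
  obtain ⟨V, ht, e, he⟩ := h t
  obtain ⟨U, hU, htU, hUV⟩ := exists_isAffineOpen_mem_and_subset (X := T) (x := t) (U := V) ht
  let ι := f'.fiberι t
  let ft := f'.fiberToSpecResidueField t
  let e' : Fin n → Γ(G, f' ⁻¹ᵁ U) := fun i => res G (f'.preimage_mono hUV) (e i)
  have he' : IsFrame e' := isFrame_res he _
  have hle : ft ⁻¹ᵁ ⊤ ≤ ι ⁻¹ᵁ (f' ⁻¹ᵁ U) := fun z _ => by
    change f' (f'.fiberι t z) ∈ U
    rw [← Scheme.Hom.comp_apply, Scheme.Hom.fiber_fac, Scheme.Hom.comp_apply, Scheme.fromSpecResidueField_apply]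
    exact htU
  have hspan : SpanAt f' G ft ι U ⊤ hle := by
    refine eq_top_iff.2 fun x _ => ?_
    have hfr : IsFrame (fun i => ModDesc.pullSectLE ι G (f' ⁻¹ᵁ U) (ft ⁻¹ᵁ ⊤) hle (e' i)) := by
      simp only [ModDesc.pullSectLE_apply]
      exact isFrame_res (TMul.IsFrame.pullback ι he') hle
    obtain ⟨c, hc⟩ := hfr.comb_surjective le_rfl (show Γ((Scheme.Modules.pullback ι).obj G, ft ⁻¹ᵁ ⊤) from x)
    have hbt : Function.Bijective (ft.app ⊤).hom :=
      (Function.Bijective.of_comp_iff _ (ConcreteCategory.bijective_of_isIso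
        (Scheme.ΓSpecIso (T.residueField t)).inv)).1 ((UnivO.of_isPullback (IsPullback.of_hasPullback f u)).bijective_fiber t)
    choose b hb using fun i => hbt.2 (c i)
    have hx : x = ∑ i, b i • (show (SM ft ((Scheme.Modules.pullback ι).obj G) (ft ⁻¹ᵁ ⊤) le_rfl : Type u) from
        ModDesc.pullSectLE ι G (f' ⁻¹ᵁ U) (ft ⁻¹ᵁ ⊤) hle (e' i)) := by
      refine hc.symm.trans (Finset.sum_congr rfl fun i _ => ?_)
      rw [QC.res_self, ← hb i, ft.app_eq_appLE]
      rfl
    rw [hx]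
    exact Submodule.sum_mem _ fun i _ => Submodule.smul_mem _ _ (Submodule.subset_span ⟨e' i, rfl⟩)
  obtain ⟨W, htW, -, hW⟩ := exists_nhd_epi_of_spanAt f' G hqG hFG hflG t hU htU hle hspan
  obtain ⟨U', hU', htU', hU'W⟩ := exists_isAffineOpen_mem_and_subset (X := T) (x := t) (U := W) htW
  obtain ⟨m⟩ := nonempty_ModelNN f' hqG hFG hflG hU'
  exact ⟨U', hU', m, htU', hW U' hU' hU'W m⟩

end Groth.Agent.W7Strat
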