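import Groth.Agent.Fitting.Transform
import Groth.Agent.FittLib.Proj

/-!
Projective of rank `r` after base change, by Fitting ideals.
-/

set_option autoImplicit false
set_option linter.style.haveILetI false
set_option maxHeartbeats 1000000

universe u

open scoped TensorProduct

noncomputable section

namespace Groth.Agent.W7Strat

variable {A : Type u} [CommRing A] (Q : Type u) [AddCommGroup Q] [Module A Q] (r : ℕ)

/-- Projective of constant rank `r`. -/
def Good : Prop :=
  Module.Projective A Q ∧ ∀ x : PrimeSpectrum A,
    Module.finrank x.asIdeal.ResidueField (x.asIdeal.ResidueField ⊗[A] Q) = r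

/-- The ideal of the closed condition. -/
def low : Ideal A := if r = 0 then ⊥ else Fitt.ideal A Q (r - 1)

variable {Q r}

lemma fg_low [Module.FinitePresentation A Q] : (low (A := A) Q r).FG := by
  rw [low]
  split_ifs
  · exact Submodule.fg_bot
  · exact Fitting.fg_ideal _

/-- Fitting ideals test being projective of rank `r`. -/
theorem good_iff [Module.FinitePresentation A Q] :
    Good (A := A) Q r ↔ low (A := A) Q r = ⊥ ∧ Fitt.ideal A Q r = ⊤ := by
  constructor
  · rintro ⟨hP, hr⟩
    haveI := hP
    have hrk : ∀ p : PrimeSpectrum A, Module.rankAtStalk (R := A) Q p = r := fun p =>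
      (Module.rankAtStalk_eq (R := A) (M := Q) p).trans (hr p)
    refine ⟨?_, ?_⟩
    · rw [low]
      split_ifs with h
      · rfl
      · exact Fitting.ideal_eq_bot_of_rankAtStalk hrk (by omega)
    · by_contra hne
      obtain ⟨p, hp, hle⟩ := Ideal.exists_le_maximal _ hne
      exact (Fitting.not_le_iff_finrank (p := p) (k := r)).2 (hr ⟨p, hp.isPrime⟩).le hle
  · rintro ⟨hlow, htop⟩
    refine ⟨FittLib.projective_of_ideal (k := r) htop ?_, fun x => le_antisymm ?_ ?_⟩
    · rw [low] at hlow
      split_ifs at hlow with h
      · exact Or.inl h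
      · exact Or.inr hlow
    · refine (Fitting.not_le_iff_finrank (p := x.asIdeal) (k := r)).1 fun h => ?_
      rw [htop] at h
      exact x.2.ne_top (top_le_iff.1 h)
    · by_contra hlt
      rw [low, if_neg (by omega)] at hlow
      refine (Fitting.not_le_iff_finrank (M := Q) (p := x.asIdeal) (k := r - 1)).2 (by omega) ?_
      rw [hlow]
      exact bot_le

/-- The conditions after base change. -/
theorem good_baseChange_iff [Module.FinitePresentation A Q] (B : Type u) [CommRing B] [Algebra A B] :
    Good (A := B) (B ⊗[A] Q) r ↔
      (low (A := A) Q r).map (algebraMap A B) = ⊥ ∧ (Fitt.ideal A Q r).map (algebraMap A B) = ⊤ := by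
  rw [good_iff, Fitting.ideal_baseChange B r]
  have : low (A := B) (B ⊗[A] Q) r = (low (A := A) Q r).map (algebraMap A B) := by
    rw [low, low]
    split_ifs
    · rw [Ideal.map_bot]
    · exact Fitting.ideal_baseChange B _
  rw [this]

/-- Being projective of rank `r` passes along isomorphisms. -/
theorem Good.congr {Q' : Type u} [AddCommGroup Q'] [Module A Q'] (h : Good (A := A) Q r) (e : Q ≃ₗ[A] Q') :
    Good (A := A) Q' r := by
  haveI := h.1
  refine ⟨Module.Projective.of_equiv e, fun x => ?_⟩
  rw [← h.2 x]
  exact (TensorProduct.AlgebraTensorModule.congr (LinearEquiv.refl x.asIdeal.ResidueField x.asIdeal.ResidueField)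
    e).finrank_eq.symm

end Groth.Agent.W7Strat
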