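import Groth.Agent.W7Strat.Crit
import Groth.Agent.W7Strat.Fit
import Groth.Agent.ModDesc.Iso
import Groth.Agent.WeakAssLib.Basic

/-!
The stratum condition in terms of Fitting ideals of corepresenting modules.
-/

set_option autoImplicit false
set_option backward.isDefEq.respectTransparency false
set_option backward.isDefEq.respectTransparency.types false
set_option linter.style.haveILetI false
set_option maxHeartbeats 2000000

universe u

open CategoryTheory CategoryTheory.Limits AlgebraicGeometry TopologicalSpace Opposite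
open Groth.Agent.FlatCx Groth.Agent.W7Cech
open Groth.Agent.QC (res res_res res_self)
open scoped TensorProduct

noncomputable section

namespace Groth.Agent.W7Strat

variable {X S : Scheme.{u}} (f : X ⟶ S) [IsProper f] [LocallyOfFinitePresentation f] (F : X.Modules) (r : ℕ)

/-- The direct image along a base change of `f` is locally free of rank `r` and commutes with base change. -/
def PushAt {P T : Scheme.{u}} (f' : P ⟶ T) (g' : P ⟶ X) : Prop :=
  FlatMod.IsFinLocFreeOfRank r ((Scheme.Modules.pushforward f').obj ((Scheme.Modules.pullback g').obj F)) ∧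
    ∀ ⦃X'' T' : Scheme.{u}⦄ (v' : X'' ⟶ P) (f'' : X'' ⟶ T') (u' : T' ⟶ T)
      (h : IsPullback v' f'' f' u'),
      IsIso (CohBC.bc0 f' u' f'' v' h.w ((Scheme.Modules.pullback g').obj F))

/-- The direct image after base change is locally free of rank `r` and commutes with base change. -/
def Push {T : Scheme.{u}} (u : T ⟶ S) : Prop := PushAt F r (pullback.snd f u) (pullback.fst f u)

/-- The Fitting conditions near every point. -/
def Strat {T : Scheme.{u}} (u : T ⟶ S) : Prop :=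
  ∀ t : T, ∃ (U : S.Opens) (hU : IsAffineOpen U) (m : ModelNN f F hU) (Q : ModuleCat.{u} Γ(S, U))
    (V : T.Opens) (hVU : V ≤ u ⁻¹ᵁ U), IsAffineOpen V ∧ t ∈ V ∧ Module.FinitePresentation Γ(S, U) Q ∧
      Nonempty (CohIII.TFun m.L 0 ≅ (linearCoyoneda Γ(S, U) (ModuleCat.{u} Γ(S, U))).obj (op Q)) ∧
      (low (A := Γ(S, U)) Q r).map (u.appLE U V hVU).hom = ⊥ ∧
      (Fitt.ideal Γ(S, U) Q r).map (u.appLE U V hVU).hom = ⊤

variable {f F r} (hq : Coh.IsQCoh F) (hF : CohB1.IsFP F) (hfl : FlatMod.IsFlatOver f F)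

omit [IsProper f] [LocallyOfFinitePresentation f] in
include hfl in
lemma isFlatOver_pullback {P T : Scheme.{u}} {u : T ⟶ S} {f' : P ⟶ T} {g' : P ⟶ X} (sq : IsPullback g' f' f u) :
    FlatMod.IsFlatOver f' ((Scheme.Modules.pullback g').obj F) := fun x =>
  FlatModBC.isFlatOverAt_baseChange sq F x (hfl _)

include hq hF hfl in
/-- A good direct image gives the Fitting conditions in every chart. -/
theorem PushAt.fit {P T : Scheme.{u}} {u : T ⟶ S} {f' : P ⟶ T} {g' : P ⟶ X} (sq : IsPullback g' f' f u)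
    (h : PushAt F r f' g') {U : S.Opens} {hU : IsAffineOpen U}
    (m : ModelNN f F hU) (Q : ModuleCat.{u} Γ(S, U)) [Module.FinitePresentation Γ(S, U) Q]
    (η : CohIII.TFun m.L 0 ≅ (linearCoyoneda Γ(S, U) (ModuleCat.{u} Γ(S, U))).obj (op Q))
    (t : T) (ht : u t ∈ U) :
    ∃ (V : T.Opens) (hVU : V ≤ u ⁻¹ᵁ U), IsAffineOpen V ∧ t ∈ V ∧
      (low (A := Γ(S, U)) Q r).map (u.appLE U V hVU).hom = ⊥ ∧
      (Fitt.ideal Γ(S, U) Q r).map (u.appLE U V hVU).hom = ⊤ := by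
  let G := (Scheme.Modules.pullback g').obj F
  haveI : LocallyOfFinitePresentation f' :=
    MorphismProperty.of_isPullback (P := @LocallyOfFinitePresentation) sq ‹_›
  haveI : IsProper f' := MorphismProperty.of_isPullback (P := @IsProper) sq ‹_›
  have hqG : Coh.IsQCoh G := QC.isQCoh_pullback _ hq
  have hFG : CohB1.IsFP G := ModDesc.isFP_pullback _ hq hF
  have hflG := isFlatOver_pullback hfl sq
  haveI : IsIso (CohBC.bc0 f' (T.fromSpecResidueField t) (f'.fiberToSpecResidueField t) (f'.fiberι t)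
      (f'.fiber_fac t) G) :=
    h.2 (f'.fiberι t) (f'.fiberToSpecResidueField t) (T.fromSpecResidueField t)
      (IsPullback.of_hasPullback f' (T.fromSpecResidueField t))
  obtain ⟨W, htW, hW, hWfree⟩ := exists_nhd_good f' hqG hFG hflG t inferInstance
  obtain ⟨V, hV, htV, hVW⟩ := exists_isAffineOpen_mem_and_subset (X := T) (x := t) (U := W ⊓ u ⁻¹ᵁ U) ⟨htW, ht⟩
  have hVU : V ≤ u ⁻¹ᵁ U := fun z hz => (hVW hz).2
  obtain ⟨m'⟩ := nonempty_ModelNN f' hqG hFG hflG hV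
  obtain ⟨Q', hQ', ⟨η'⟩⟩ := exists_corep_model f' m'
  haveI := hQ'
  have hgood : Good (A := Γ(T, V)) (Q' : Type u) r := by
    refine ⟨(projective_iff_preservesEpi m'.L Q' η').2 (hW V hV (fun z hz => (hVW hz).1) m'), fun x => ?_⟩
    rw [← fiberRank_eq_finrank_corep f' m' Q' η' x]
    obtain ⟨U₁, h1, ⟨e₁⟩⟩ := hWfree (hV.fromSpec x) (hVW (fromSpec_mem hV x)).1
    obtain ⟨U₂, h2, ⟨e₂⟩⟩ := h.1 (hV.fromSpec x)
    exact ModDesc.rank_unique e₁ e₂ h1 h2
  letI : Algebra Γ(S, U) Γ(T, V) := (u.appLE U V hVU).hom.toAlgebra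
  obtain ⟨e⟩ := nonempty_corep_baseChange f hq m Q η f' sq hVU m' Q' η'
  exact ⟨V, hVU, hV, htV, (good_baseChange_iff Γ(T, V)).1 (hgood.congr e)⟩

include hq hF hfl in
/-- **The two conditions agree.** -/
theorem pushAt_iff_strat {P T : Scheme.{u}} {u : T ⟶ S} {f' : P ⟶ T} {g' : P ⟶ X} (sq : IsPullback g' f' f u) :
    PushAt F r f' g' ↔ Strat f F r u := by
  haveI : LocallyOfFinitePresentation f' :=
    MorphismProperty.of_isPullback (P := @LocallyOfFinitePresentation) sq ‹_›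
  haveI : IsProper f' := MorphismProperty.of_isPullback (P := @IsProper) sq ‹_›
  constructor
  · intro h t
    obtain ⟨U, hU, htU, -⟩ := exists_isAffineOpen_mem_and_subset (X := S) (x := u t) (U := ⊤) trivial
    obtain ⟨m⟩ := nonempty_ModelNN f hq hF hfl hU
    obtain ⟨Q, hQ, ⟨η⟩⟩ := exists_corep_model f m
    haveI := hQ
    obtain ⟨V, hVU, hV, htV, hfit⟩ := h.fit hq hF hfl sq m Q η t htU
    exact ⟨U, hU, m, Q, V, hVU, hV, htV, hQ, ⟨η⟩, hfit⟩
  · intro h
    let G := (Scheme.Modules.pullback g').obj F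
    have hqG : Coh.IsQCoh G := QC.isQCoh_pullback _ hq
    have hFG : CohB1.IsFP G := ModDesc.isFP_pullback _ hq hF
    have hflG := isFlatOver_pullback hfl sq
    have key := (push_iff f' hqG hFG hflG r).2 fun t => by
      obtain ⟨U, hU, m, Q, V, hVU, hV, htV, hQ, ⟨η⟩, hfit⟩ := h t
      haveI := hQ
      letI : Algebra Γ(S, U) Γ(T, V) := (u.appLE U V hVU).hom.toAlgebra
      obtain ⟨m'⟩ := nonempty_ModelNN f' hqG hFG hflG hV
      obtain ⟨Q', hQ', ⟨η'⟩⟩ := exists_corep_model f' m'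
      haveI := hQ'
      obtain ⟨e⟩ := nonempty_corep_baseChange f hq m Q η f' sq hVU m' Q' η'
      have hgood := ((good_baseChange_iff (r := r) Γ(T, V)).2 hfit).congr e.symm
      exact ⟨V, hV, m', Q', htV, hQ', ⟨η'⟩, hgood.1, hgood.2⟩
    exact ⟨key.1, fun X'' T' v' f'' u' h => key.2 v' f'' u' h⟩

include hq hF hfl in
/-- The two conditions agree, for the chosen fibre product. -/
theorem push_iff_strat {T : Scheme.{u}} (u : T ⟶ S) : Push f F r u ↔ Strat f F r u :=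
  pushAt_iff_strat hq hF hfl (IsPullback.of_hasPullback f u)

/-- Stability under base change. -/
theorem Strat.comp {T T' : Scheme.{u}} {u : T ⟶ S} (h : Strat f F r u) (w : T' ⟶ T) : Strat f F r (w ≫ u) := by
  intro t
  obtain ⟨U, hU, m, Q, V, hVU, -, htV, hQ, η, h1, h2⟩ := h (w t)
  obtain ⟨V', hV', htV', hV'V⟩ := exists_isAffineOpen_mem_and_subset (X := T') (x := t) (U := w ⁻¹ᵁ V) htV
  have hV'V : V' ≤ w ⁻¹ᵁ V := hV'V
  have e : u.appLE U V hVU ≫ w.appLE V V' hV'V = (w ≫ u).appLE U V' (hV'V.trans (w.preimage_mono hVU)) :=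
    Scheme.Hom.appLE_comp_appLE w u U V V' hVU hV'V
  refine ⟨U, hU, m, Q, V', hV'V.trans (w.preimage_mono hVU), hV', htV', hQ, η, ?_, ?_⟩
  · rw [← e, CommRingCat.hom_comp, ← Ideal.map_map, h1, Ideal.map_bot]
  · rw [← e, CommRingCat.hom_comp, ← Ideal.map_map, h2, Ideal.map_top]

/-- Locality. -/
theorem strat_of_local {T : Scheme.{u}} {u : T ⟶ S}
    (h : ∀ t : T, ∃ O : T.Opens, t ∈ O ∧ Strat f F r (O.ι ≫ u)) : Strat f F r u := by
  intro t
  obtain ⟨O, htO, hO⟩ := h t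
  obtain ⟨U, hU, m, Q, V, hVU, hV, htV, hQ, η, h1, h2⟩ := hO ⟨t, htO⟩
  have hle : O.ι ''ᵁ V ≤ u ⁻¹ᵁ U := by
    rintro _ ⟨z, hz, rfl⟩
    exact hVU hz
  have hle' : V ≤ O.ι ⁻¹ᵁ (O.ι ''ᵁ V) := fun z hz => ⟨z, hz, rfl⟩
  have e : u.appLE U (O.ι ''ᵁ V) hle ≫ O.ι.appLE (O.ι ''ᵁ V) V hle' = (O.ι ≫ u).appLE U V hVU :=
    Scheme.Hom.appLE_comp_appLE O.ι u U (O.ι ''ᵁ V) V hle hle'
  haveI : IsIso (O.ι.appLE (O.ι ''ᵁ V) V hle') := by
    rw [show O.ι.appLE (O.ι ''ᵁ V) V hle' = (O.ι.appIso V).hom from (O.ι.appIso_hom' V).symm]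
    infer_instance
  let j := O.ι.appLE (O.ι ''ᵁ V) V hle'
  have hj : (inv j).hom.comp j.hom = RingHom.id _ := by
    rw [← CommRingCat.hom_comp, IsIso.hom_inv_id]
    rfl
  have key : ∀ I : Ideal Γ(S, U), I.map (u.appLE U (O.ι ''ᵁ V) hle).hom =
      (I.map ((O.ι ≫ u).appLE U V hVU).hom).map (inv j).hom := fun I => by
    rw [← e, CommRingCat.hom_comp, ← Ideal.map_map, Ideal.map_map _ (inv j).hom, hj, Ideal.map_id]
  refine ⟨U, hU, m, Q, O.ι ''ᵁ V, hle, hV.image_of_isOpenImmersion O.ι, ⟨⟨t, htO⟩, htV, rfl⟩, hQ, η, ?_, ?_⟩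
  · rw [key, h1, Ideal.map_bot]
  · rw [key, h2, Ideal.map_top]

include hq hF hfl in
/-- The conditions in a given chart. -/
theorem Strat.chart {T : Scheme.{u}} {u : T ⟶ S} (h : Strat f F r u) {U : S.Opens} {hU : IsAffineOpen U}
    (m : ModelNN f F hU) (Q : ModuleCat.{u} Γ(S, U)) [Module.FinitePresentation Γ(S, U) Q]
    (η : CohIII.TFun m.L 0 ≅ (linearCoyoneda Γ(S, U) (ModuleCat.{u} Γ(S, U))).obj (op Q)) :
    (∀ (V : T.Opens) (hVU : V ≤ u ⁻¹ᵁ U), (low (A := Γ(S, U)) Q r).map (u.appLE U V hVU).hom = ⊥) ∧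
      ∀ t, u t ∈ U → ∃ a ∈ Fitt.ideal Γ(S, U) Q r, u t ∈ S.basicOpen a := by
  have sq := IsPullback.of_hasPullback f u
  have hp := (pushAt_iff_strat hq hF hfl sq).2 h
  refine ⟨fun V hVU => ?_, fun t ht => ?_⟩
  · rw [Ideal.map_eq_bot_iff_le_ker]
    intro c hc
    choose W hWU _ hWt h1 _ using fun z : V => hp.fit hq hF hfl sq m Q η (z : T) (hVU z.2)
    refine T.sheaf.eq_of_locally_eq' (fun z : V => V ⊓ W z) V (fun z => homOfLE inf_le_left)
      (fun z hz => Opens.mem_iSup.2 ⟨⟨z, hz⟩, hz, hWt ⟨z, hz⟩⟩) _ 0 fun z => ?_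
    change (T.presheaf.map (homOfLE (inf_le_left : V ⊓ W z ≤ V)).op).hom ((u.appLE U V hVU).hom c) =
      (T.presheaf.map (homOfLE (inf_le_left : V ⊓ W z ≤ V)).op).hom 0
    rw [map_zero, ← RingHom.comp_apply, ← CommRingCat.hom_comp, Scheme.Hom.appLE_map]
    have h0 : (u.appLE U (W z) (hWU z)).hom c = 0 := by
      rw [← Ideal.mem_bot, ← h1 z]
      exact Ideal.mem_map_of_mem _ hc
    rw [← u.appLE_map (hWU z) (homOfLE (inf_le_right : V ⊓ W z ≤ W z)).op, CommRingCat.hom_comp,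
      RingHom.comp_apply, h0, map_zero]
  · obtain ⟨V, hVU, hV, htV, -, h2⟩ := hp.fit hq hF hfl sq m Q η t ht
    by_contra hne
    have h3 : (Fitt.ideal Γ(S, U) Q r).map (u.appLE U V hVU).hom ≤ (hV.primeIdealOf ⟨t, htV⟩).asIdeal := by
      rw [Ideal.map_le_iff_le_comap]
      intro a ha
      rw [Ideal.mem_comap]
      by_contra hx
      refine hne ⟨a, ha, ?_⟩
      have hmem := (WeakAssLib.mem_primeIdealOf hV htV _).2 hx
      rw [Scheme.Hom.appLE, CommRingCat.hom_comp, RingHom.comp_apply, Scheme.basicOpen_res,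
        ← Scheme.preimage_basicOpen] at hmem
      exact hmem.2
    rw [h2] at h3
    exact (hV.primeIdealOf ⟨t, htV⟩).2.ne_top (top_le_iff.1 h3)

end Groth.Agent.W7Strat
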