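import Groth.Agent.W7Cech.Corep
import Groth.Agent.W7Cech.NNGrauert
import Groth.Agent.W7See.SubAlg

/-!
The corepresenting module of degree zero of a complex of finite free modules over any ring.
-/

set_option autoImplicit false
set_option backward.isDefEq.respectTransparency false
set_option linter.style.haveILetI false
set_option maxHeartbeats 1000000

universe u

open CategoryTheory Opposite
open Groth.Agent.FlatCx Groth.Agent.W7Cech
open scoped TensorProduct

noncomputable section

namespace Groth.Agent.W7Strat

variable {A : Type u} [CommRing A] (L : CochainComplex (ModuleCat.{u} A) ℤ)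
  (hL : ∀ i, Module.Finite A (L.X i) ∧ Module.Free A (L.X i))

include hL in
/-- A finitely presented corepresenting module. -/
theorem exists_corep_fp (p : ℤ) (hp : (CohIII.TFun L p).PreservesMonomorphisms) :
    ∃ Q : ModuleCat.{u} A, Module.FinitePresentation A Q ∧
      Nonempty (CohIII.TFun L p ≅ (linearCoyoneda A (ModuleCat.{u} A)).obj (op Q)) := by
  haveI := (preservesMono_iff_flat_opc (flatX L hL) rfl rfl).1 hp
  haveI := (hL p).1
  haveI := (hL ((ComplexShape.up ℤ).next p)).1
  haveI := (hL ((ComplexShape.up ℤ).next p)).2
  haveI := (hL ((ComplexShape.up ℤ).prev p)).1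
  haveI := finitePresentationX L hL p
  haveI : Module.FinitePresentation A (Corep.C₀ L p) :=
    Module.finitePresentation_of_surjective (LinearMap.range (L.d ((ComplexShape.up ℤ).prev p) p).hom).mkQ
      (Submodule.mkQ_surjective _) (by
        rw [Submodule.ker_mkQ, LinearMap.range_eq_map]
        exact Module.Finite.fg_top.map _)
  haveI : Module.Projective A (Corep.C₀ L p) := Module.Flat.projective_of_finitePresentation
  haveI : Module.FinitePresentation A (Module.Dual A (Corep.C₀ L p)) := Module.finitePresentation_of_projective A _
  refine ⟨ModuleCat.of A (Corep.Q₀ L p), ?_, Corep.nonempty_iso L p⟩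
  exact Module.finitePresentation_of_surjective (LinearMap.range (Corep.delta L p).dualMap).mkQ
    (Submodule.mkQ_surjective _) (by
      exact (Submodule.ker_mkQ (LinearMap.range (Corep.delta L p).dualMap)).symm.subst
        (motive := fun N => N.FG) (Module.Finite.iff_fg.1 (Module.Finite.range (Corep.delta L p).dualMap)))

/-- A corepresenting module is projective exactly when the functor is right exact. -/
theorem projective_iff_preservesEpi (Q : ModuleCat.{u} A) {p : ℤ}
    (η : CohIII.TFun L p ≅ (linearCoyoneda A (ModuleCat.{u} A)).obj (op Q)) :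
    Module.Projective A Q ↔ (CohIII.TFun L p).PreservesEpimorphisms := by
  rw [Functor.PreservesEpimorphisms.iso_iff η]
  constructor
  · intro hQ
    refine ⟨fun {M N} g hg => (ModuleCat.epi_iff_surjective _).2 fun w => ?_⟩
    obtain ⟨v, hv⟩ := Module.projective_lifting_property g.hom (ModuleCat.Hom.hom w)
      ((ModuleCat.epi_iff_surjective g).1 hg)
    exact ⟨ModuleCat.ofHom v, ModuleCat.hom_ext hv⟩
  · intro h
    refine Module.Projective.of_lifting_property fun {M N} _ _ _ _ g w hg => ?_
    haveI : Epi (ModuleCat.ofHom g : ModuleCat.of A M ⟶ ModuleCat.of A N) :=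
      (ModuleCat.epi_iff_surjective _).2 hg
    obtain ⟨v, hv⟩ := (ModuleCat.epi_iff_surjective _).1
      (h.preserves (ModuleCat.ofHom g : ModuleCat.of A M ⟶ ModuleCat.of A N))
      (ModuleCat.ofHom w : Q ⟶ ModuleCat.of A N)
    exact ⟨ModuleCat.Hom.hom v, congrArg ModuleCat.Hom.hom hv⟩

end Groth.Agent.W7Strat
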