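import Groth.Agent.W7Strat.Reps
import Groth.Agent.W7Strat.Corep
import Groth.Agent.W7Cech.BC0

/-!
The corepresenting module of the direct image commutes with base change.
-/

set_option autoImplicit false
set_option backward.isDefEq.respectTransparency false
set_option backward.isDefEq.respectTransparency.types false
set_option linter.style.haveILetI false
set_option maxHeartbeats 2000000

universe u

open CategoryTheory CategoryTheory.Limits AlgebraicGeometry TopologicalSpace Opposite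
open Groth.Agent.SiteCoh Groth.Agent.FlatCx Groth.Agent.W7Cech
open Groth.Agent.QC (res resO res_res res_self res_smul)
open scoped TensorProduct

noncomputable section

namespace Groth.Agent.W7Strat

variable {X S : Scheme.{u}} (f : X ⟶ S) [IsProper f] [LocallyOfFinitePresentation f] {F : X.Modules}
  [HasInjectiveResolutions X.Modules]

/-- A model has a finitely presented corepresenting module in degree zero. -/
theorem exists_corep_model {U : S.Opens} {hU : IsAffineOpen U} (m : ModelNN f F hU) :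
    ∃ Q : ModuleCat.{u} Γ(S, U), Module.FinitePresentation Γ(S, U) Q ∧
      Nonempty (CohIII.TFun m.L 0 ≅ (linearCoyoneda Γ(S, U) (ModuleCat.{u} Γ(S, U))).obj (op Q)) :=
  exists_corep_fp m.L m.hL 0 ((T_epi_iff_mono_succ m.L (flatX m.L m.hL) (-1)).1
    ⟨fun {M N} g _ => (m.hneg (-1) (by omega) N).epi _⟩)

set_option maxHeartbeats 4000000 in
/-- **Base change of the corepresenting module.** -/
theorem nonempty_corep_baseChange (hq : Coh.IsQCoh F) {U : S.Opens} {hU : IsAffineOpen U}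
    (m : ModelNN f F hU) (Q : ModuleCat.{u} Γ(S, U))
    (η : CohIII.TFun m.L 0 ≅ (linearCoyoneda Γ(S, U) (ModuleCat.{u} Γ(S, U))).obj (op Q))
    {T X' : Scheme.{u}} {g : T ⟶ S} (f' : X' ⟶ T) {g' : X' ⟶ X} [IsProper f'] [LocallyOfFinitePresentation f']
    [HasInjectiveResolutions X'.Modules] (hsq : IsPullback g' f' f g)
    {V : T.Opens} {hV : IsAffineOpen V} (hVU : V ≤ g ⁻¹ᵁ U)
    (m' : ModelNN f' ((Scheme.Modules.pullback g').obj F) hV) (Q' : ModuleCat.{u} Γ(T, V))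
    (η' : CohIII.TFun m'.L 0 ≅ (linearCoyoneda Γ(T, V) (ModuleCat.{u} Γ(T, V))).obj (op Q')) :
    letI : Algebra Γ(S, U) Γ(T, V) := (g.appLE U V hVU).hom.toAlgebra
    Nonempty ((Q' : Type u) ≃ₗ[Γ(T, V)] Γ(T, V) ⊗[Γ(S, U)] (Q : Type u)) := by
  let A : Type u := Γ(S, U)
  let B : Type u := Γ(T, V)
  let P := f ⁻¹ᵁ U
  letI : P.toScheme.Over (Spec (CommRingCat.of Γ(S, U))) := ⟨(f ∣_ U) ≫ hU.isoSpec.hom⟩
  haveI : IsProper (f ∣_ U) := IsZariskiLocalAtTarget.restrict (P := @IsProper) ‹_› U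
  haveI : IsProper (P.toScheme ↘ Spec (CommRingCat.of A)) :=
    inferInstanceAs (IsProper ((f ∣_ U) ≫ hU.isoSpec.hom))
  haveI : CompactSpace P.toScheme := QuasiCompact.compactSpace_of_compactSpace (P.toScheme ↘ Spec (CommRingCat.of A))
  haveI : P.toScheme.IsSeparated := by
    constructor
    rw [← terminal.comp_from (P.toScheme ↘ Spec (CommRingCat.of A))]
    infer_instance
  obtain ⟨ι, hι, W, hW, hcov⟩ := exists_cover P.toScheme
  haveI := hι
  let O : ι → X.Opens := fun i => P.ι ''ᵁ W i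
  have hO : ∀ i, O i ≤ f ⁻¹ᵁ U := fun i => by
    rintro _ ⟨x, -, rfl⟩
    exact x.2
  have hOa : ∀ i, IsAffineOpen (O i) := fun i => by
    have := hW 0 fun _ => i
    rw [tupleProd_eq_iInf, iInf_const] at this
    exact this.image_of_isOpenImmersion P.ι
  have hOa₂ : ∀ i j, IsAffineOpen (O i ⊓ O j) := fun i j => by
    have := (hW 1 ![i, j]).image_of_isOpenImmersion P.ι
    rwa [show P.ι ''ᵁ tupleProd W ![i, j] = O i ⊓ O j from SetLike.coe_injective (by
      rw [tupleProd_eq_iInf, show (⨅ k, W (![i, j] k)) = W i ⊓ W j from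
        le_antisymm (le_inf (iInf_le _ 0) (iInf_le _ 1)) (le_iInf fun k => by fin_cases k <;> simp)]
      exact Set.image_inter P.ι.isOpenEmbedding.injective)] at this
  have hcovO : f ⁻¹ᵁ U ≤ iSup O := fun x hx => by
    have : (⟨x, hx⟩ : P.toScheme) ∈ iSup W := hcov ▸ trivial
    obtain ⟨i, hi⟩ := Opens.mem_iSup.1 this
    exact Opens.mem_iSup.2 ⟨i, ⟨⟨x, hx⟩, hi, rfl⟩⟩
  have hle : f' ⁻¹ᵁ V ≤ g' ⁻¹ᵁ (f ⁻¹ᵁ U) := by
    rw [← Scheme.Hom.comp_preimage, hsq.w, Scheme.Hom.comp_preimage]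
    exact f'.preimage_mono hVU
  let P' := f' ⁻¹ᵁ V
  letI : P'.toScheme.Over (Spec (CommRingCat.of Γ(T, V))) := ⟨(f' ∣_ V) ≫ hV.isoSpec.hom⟩
  haveI : IsProper (f' ∣_ V) := IsZariskiLocalAtTarget.restrict (P := @IsProper) ‹_› V
  haveI : IsProper (P'.toScheme ↘ Spec (CommRingCat.of B)) :=
    inferInstanceAs (IsProper ((f' ∣_ V) ≫ hV.isoSpec.hom))
  haveI : P'.toScheme.IsSeparated := by
    constructor
    rw [← terminal.comp_from (P'.toScheme ↘ Spec (CommRingCat.of B))]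
    infer_instance
  let O' : ι → X'.Opens := fun i => g' ⁻¹ᵁ O i ⊓ f' ⁻¹ᵁ V
  have hO' : ∀ i, O' i ≤ f' ⁻¹ᵁ V := fun i => inf_le_right
  have hO'a : ∀ i, IsAffineOpen (O' i) := fun i => by
    haveI : IsAffine _ := hU
    haveI : IsAffine _ := hV
    haveI : IsAffine _ := hOa i
    exact .of_isIso (Scheme.Hom.isPullback_resLE hsq hVU (hO i) rfl).isoPullback.hom
  have hO'₂ : ∀ i j, O' i ⊓ O' j = g' ⁻¹ᵁ (O i ⊓ O j) ⊓ f' ⁻¹ᵁ V := fun i j => by
    change (g' ⁻¹ᵁ O i ⊓ f' ⁻¹ᵁ V) ⊓ (g' ⁻¹ᵁ O j ⊓ f' ⁻¹ᵁ V) = g' ⁻¹ᵁ (O i ⊓ O j) ⊓ f' ⁻¹ᵁ V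
    rw [Scheme.Hom.preimage_inf, inf_inf_inf_comm, inf_idem]
  let W' : ι → P'.toScheme.Opens := fun i => P'.ι ⁻¹ᵁ O' i
  have hOW' : ∀ i, P'.ι ''ᵁ W' i = O' i := fun i => by
    rw [P'.ι.image_preimage_eq_opensRange_inf, Scheme.Opens.opensRange_ι, inf_eq_right]
    exact hO' i
  have hW' : ∀ (n : ℕ) (a : Fin (n + 1) → ι), IsAffineOpen (tupleProd W' a) := fun n a => by
    rw [tupleProd_eq_iInf]
    exact isAffineOpen_iInf_fin n _ fun k => (hO'a (a k)).preimage_of_isOpenImmersion P'.ι (by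
      rw [Scheme.Opens.opensRange_ι]; exact hO' (a k))
  have hcov' : iSup W' = ⊤ := top_unique fun x _ => by
    obtain ⟨i, hi⟩ := Opens.mem_iSup.1 (hcovO (hle x.2))
    exact Opens.mem_iSup.2 ⟨i, hi, x.2⟩
  let G := (Scheme.Modules.pullback g').obj F
  letI : Algebra A B := (g.appLE U V hVU).hom.toAlgebra
  letI : ∀ i, Module A (SM f' G (O' i) (hO' i) : Type u) := fun i => Module.compHom _ (g.appLE U V hVU).hom
  haveI : ∀ i, IsScalarTower A B (SM f' G (O' i) (hO' i) : Type u) := fun i =>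
    IsScalarTower.of_algebraMap_smul fun _ _ => rfl
  letI : ∀ p : ι × ι, Module A (SM f' G (O' p.1 ⊓ O' p.2) (inf_le_left.trans (hO' p.1)) : Type u) :=
    fun p => Module.compHom _ (g.appLE U V hVU).hom
  haveI : ∀ p : ι × ι, IsScalarTower A B (SM f' G (O' p.1 ⊓ O' p.2) (inf_le_left.trans (hO' p.1)) : Type u) :=
    fun p => IsScalarTower.of_algebraMap_smul fun _ _ => rfl
  let ψ₀ : (C0 f F O hO : Type u) →ₗ[A] (∀ i, (SM f' G (O' i) (hO' i) : Type u)) :=
    LinearMap.pi fun i => pullPiece F hVU hsq.w (hO i) (O' := O' i) inf_le_left inf_le_right ∘ₗ LinearMap.proj i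
  let ψ₁ : (C1 f F O hO : Type u) →ₗ[A] (∀ p : ι × ι, (SM f' G (O' p.1 ⊓ O' p.2) (inf_le_left.trans (hO' p.1)) : Type u)) :=
    LinearMap.pi fun p => pullPiece F hVU hsq.w (inf_le_left.trans (hO p.1)) (O' := O' p.1 ⊓ O' p.2)
      ((hO'₂ p.1 p.2).le.trans inf_le_left) (inf_le_left.trans (hO' p.1)) ∘ₗ LinearMap.proj p
  have h₀ : IsBaseChange B ψ₀ := IsBaseChange.pi _ fun i =>
    isBaseChange_pullPiece F hVU hsq hq hU hV (hO i) (hOa i) rfl
  have h₁ : IsBaseChange B ψ₁ := IsBaseChange.pi _ fun p =>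
    isBaseChange_pullPiece F hVU hsq hq hU hV (inf_le_left.trans (hO p.1)) (hOa₂ p.1 p.2) (hO'₂ p.1 p.2)
  have hd : ∀ x, d01 f' G O' hO' (ψ₀ x) = ψ₁ (d01 f F O hO x) := fun x => funext fun p => by
      change res G inf_le_left (ModDesc.pullSectLE g' F (O p.1) (O' p.1) inf_le_left (show Γ(F, O p.1) from x p.1)) -
          res G inf_le_right (ModDesc.pullSectLE g' F (O p.2) (O' p.2) inf_le_left (show Γ(F, O p.2) from x p.2)) =
        ModDesc.pullSectLE g' F (O p.1 ⊓ O p.2) (O' p.1 ⊓ O' p.2) _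
          (res F inf_le_left (show Γ(F, O p.1) from x p.1) - res F inf_le_right (show Γ(F, O p.2) from x p.2))
      rw [map_sub, ModDesc.res_pullSectLE g' F (inf_le_left : O p.1 ⊓ O p.2 ≤ O p.1) inf_le_left inf_le_left
          ((hO'₂ p.1 p.2).le.trans inf_le_left),
        ModDesc.res_pullSectLE g' F (inf_le_right : O p.1 ⊓ O p.2 ≤ O p.2) inf_le_right inf_le_left
          ((hO'₂ p.1 p.2).le.trans inf_le_left)]
  obtain ⟨e0, e1, hcomm⟩ := exists_cech_cmp f hU W O hO (fun i => rfl) (F := F)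
  obtain ⟨e0', e1', hcomm'⟩ := exists_cech_cmp f' hV W' O' hO' hOW' (F := G)
  obtain ⟨θ⟩ := m.hT ι W hW hcov 0
  obtain ⟨θ'⟩ := m'.hT ι W' hW' hcov' 0
  obtain ⟨r₀⟩ := nonempty_reps_of_iso _ Q (θ.symm ≪≫ η)
  obtain ⟨r₀'⟩ := nonempty_reps_of_iso _ Q' (θ'.symm ≪≫ η')
  obtain ⟨r⟩ := Reps.congr r₀ (d := d01 f F O hO) e0 e1 fun x => (hcomm x).trans (by rw [CC_d]; rfl)
  obtain ⟨r'⟩ := Reps.congr r₀' (d := d01 f' G O' hO') e0' e1' fun x => (hcomm' x).trans (by rw [CC_d]; rfl)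
  exact Reps.nonempty_baseChange B h₀ h₁ hd r r'

end Groth.Agent.W7Strat
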