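import Groth.Agent.W7Strat.Strat
import Groth.Agent.W7Strat.Glue
import Groth.Agent.W7See.Subscheme

/-!
The stratum where the direct image is locally free of rank `r` with base change.
-/

set_option autoImplicit false
set_option backward.isDefEq.respectTransparency false
set_option backward.isDefEq.respectTransparency.types false
set_option linter.style.haveILetI false
set_option maxHeartbeats 2000000

universe u

open CategoryTheory CategoryTheory.Limits AlgebraicGeometry TopologicalSpace Opposite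
open Groth.Agent.FlatCx Groth.Agent.W7Cech
open scoped TensorProduct

noncomputable section

namespace Groth.Agent.W7Strat

section Piece

variable {S : Scheme.{u}} {D : S.Opens} (hD : IsAffineOpen D) (I : Ideal Γ(S, D))

/-- A closed piece inside its open. -/
def pieceIn : Spec (CommRingCat.of (Γ(S, D) ⧸ I)) ⟶ D.toScheme :=
  Spec.map (CommRingCat.ofHom (Ideal.Quotient.mk I)) ≫ hD.isoSpec.inv

instance : IsClosedImmersion (pieceIn hD I) := by
  haveI : IsClosedImmersion (Spec.map (CommRingCat.ofHom (Ideal.Quotient.mk I))) :=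
    IsClosedImmersion.spec_of_surjective _ Ideal.Quotient.mk_surjective
  delta pieceIn
  infer_instance

lemma pieceIn_lfp (h : I.FG) : LocallyOfFinitePresentation (pieceIn hD I) := by
  haveI : LocallyOfFinitePresentation (Spec.map (CommRingCat.ofHom (Ideal.Quotient.mk I))) := by
    rw [HasRingHomProperty.Spec_iff (P := @LocallyOfFinitePresentation)]
    exact RingHom.FinitePresentation.of_surjective _ Ideal.Quotient.mk_surjective ((Ideal.mk_ker (I := I)).symm ▸ h)
  delta pieceIn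
  infer_instance

lemma pieceIn_ι : pieceIn hD I ≫ D.ι = W7See.piece hD I := Category.assoc _ _ _

/-- Maps to a closed piece. -/
theorem factors_pieceIn_iff {T : Scheme.{u}} (v : T ⟶ D.toScheme) :
    (∃ w, w ≫ pieceIn hD I = v) ↔
      I ≤ RingHom.ker ((v ≫ D.ι).appLE D ⊤ (fun t _ => (v t).2)).hom := by
  constructor
  · rintro ⟨w, rfl⟩ j hj
    have e := Scheme.Hom.appLE_comp_appLE w (W7See.piece hD I) D ⊤ ⊤ (W7See.piece_le hD I le_rfl)
      (fun _ _ => trivial)
    have key : ∀ (q : T ⟶ S) (hq : (⊤ : T.Opens) ≤ q ⁻¹ᵁ D), q = w ≫ W7See.piece hD I →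
        (q.appLE D ⊤ hq).hom j = 0 := by
      rintro q hq rfl
      rw [← e, CommRingCat.hom_comp, RingHom.comp_apply, W7See.piece_appLE hD le_rfl, QC.resO_self,
        Ideal.Quotient.eq_zero_iff_mem.2 hj, map_zero, map_zero]
    exact key _ _ (by rw [Category.assoc, pieceIn_ι])
  · intro h
    let ψ := (v ≫ D.ι).appLE D ⊤ (fun t _ => (v t).2)
    let φ : CommRingCat.of (Γ(S, D) ⧸ I) ⟶ Γ(T, ⊤) :=
      CommRingCat.ofHom (Ideal.Quotient.lift I ψ.hom fun j hj => h hj)
    refine ⟨T.toSpecΓ ≫ Spec.map φ, ?_⟩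
    rw [← cancel_mono hD.isoSpec.hom, pieceIn]
    simp only [Category.assoc, Iso.inv_hom_id, Category.comp_id, ← Spec.map_comp]
    rw [show CommRingCat.ofHom (Ideal.Quotient.mk I) ≫ φ = ψ from CommRingCat.hom_ext (RingHom.ext fun x => rfl),
      IsAffineOpen.isoSpec_hom, Scheme.Opens.toSpecΓ, Scheme.toSpecΓ_naturality_assoc v, ← Spec.map_comp]
    refine congrArg (fun z => T.toSpecΓ ≫ Spec.map z) ?_
    simp only [ψ, Scheme.Hom.comp_appLE, Scheme.Opens.ι_app]
    rw [Scheme.Hom.appLE, W7See.app_map_eq_appTop v D.ι_preimage_self]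
    exact (Category.assoc _ _ _).symm.trans (congrArg (· ≫ v.appTop) (S.presheaf.map_comp _ _).symm)

end Piece

variable {X S : Scheme.{u}} {f : X ⟶ S} [IsProper f] [LocallyOfFinitePresentation f] {F : X.Modules} {r : ℕ}

/-- Fibre rank at most `r` is the nonvanishing of the Fitting ideal. -/
theorem fiberRank_le_iff {U : S.Opens} {hU : IsAffineOpen U} (m : ModelNN f F hU)
    (Q : ModuleCat.{u} Γ(S, U)) [Module.FinitePresentation Γ(S, U) Q]
    (η : CohIII.TFun m.L 0 ≅ (linearCoyoneda Γ(S, U) (ModuleCat.{u} Γ(S, U))).obj (op Q)) {z : S} (hz : z ∈ U)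
    (n : ℕ) : CohIII.fiberRank f F 0 z ≤ n ↔ ∃ a ∈ Fitt.ideal Γ(S, U) Q n, z ∈ S.basicOpen a := by
  have h := Fitting.not_le_iff_finrank (M := (Q : Type u)) (p := (hU.primeIdealOf ⟨z, hz⟩).asIdeal) (k := n)
  rw [← fiberRank_eq_finrank_corep f m Q η (hU.primeIdealOf ⟨z, hz⟩), hU.fromSpec_primeIdealOf ⟨z, hz⟩,
    SetLike.not_le_iff_exists] at h
  exact h.symm.trans (exists_congr fun a => and_congr_right fun _ => (WeakAssLib.mem_primeIdealOf hU hz a).symm)

variable (hq : Coh.IsQCoh F) (hF : CohB1.IsFP F) (hfl : FlatMod.IsFlatOver f F)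

include hq hF hfl in
/-- Models with corepresenting modules exist around every point. -/
theorem exists_chart (s : S) : ∃ (U : S.Opens) (hU : IsAffineOpen U) (m : ModelNN f F hU)
    (Q : ModuleCat.{u} Γ(S, U)), s ∈ U ∧ Module.FinitePresentation Γ(S, U) Q ∧
      Nonempty (CohIII.TFun m.L 0 ≅ (linearCoyoneda Γ(S, U) (ModuleCat.{u} Γ(S, U))).obj (op Q)) := by
  obtain ⟨U, hU, hsU, -⟩ := exists_isAffineOpen_mem_and_subset (X := S) (x := s) (U := ⊤) trivial
  obtain ⟨m⟩ := nonempty_ModelNN f hq hF hfl hU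
  obtain ⟨Q, hQ, η⟩ := exists_corep_model f m
  exact ⟨U, hU, m, Q, hsU, hQ, η⟩

include hq hF hfl in
lemma isOpen_fiberRank_le : IsOpen {s : S | CohIII.fiberRank f F 0 s ≤ r} := by
  rw [isOpen_iff_forall_mem_open]
  intro s hs
  obtain ⟨U, hU, m, Q, hsU, hQ, ⟨η⟩⟩ := exists_chart hq hF hfl s
  haveI := hQ
  obtain ⟨a, ha, hsa⟩ := (fiberRank_le_iff m Q η hsU r).1 hs
  exact ⟨S.basicOpen a, fun z hz => (fiberRank_le_iff m Q η (S.basicOpen_le a hz) r).2 ⟨a, ha, hz⟩,
    (S.basicOpen a).isOpen, hsa⟩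

variable (f F r) in
/-- A closed piece of the stratum. -/
structure Piece (s : S) where
  U : S.Opens
  hU : IsAffineOpen U
  m : ModelNN f F hU
  Q : ModuleCat.{u} Γ(S, U)
  fp : Module.FinitePresentation Γ(S, U) Q
  η : CohIII.TFun m.L 0 ≅ (linearCoyoneda Γ(S, U) (ModuleCat.{u} Γ(S, U))).obj (op Q)
  a : Γ(S, U)
  ha : a ∈ Fitt.ideal Γ(S, U) Q r
  mem : s ∈ S.basicOpen a

include hq hF hfl in
lemma nonempty_piece {s : S} (hs : CohIII.fiberRank f F 0 s ≤ r) : Nonempty (Piece f F r s) := by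
  obtain ⟨U, hU, m, Q, hsU, hQ, ⟨η⟩⟩ := exists_chart hq hF hfl s
  haveI := hQ
  obtain ⟨a, ha, hsa⟩ := (fiberRank_le_iff m Q η hsU r).1 hs
  exact ⟨⟨U, hU, m, Q, hQ, η, a, ha, hsa⟩⟩

/-- The ideal of a piece. -/
def Piece.I {s : S} (P : Piece f F r s) : Ideal Γ(S, S.basicOpen P.a) :=
  (low (A := Γ(S, P.U)) P.Q r).map (QC.resO S (S.basicOpen_le P.a))

include hq hF hfl in
lemma Piece.factors_iff {s : S} (P : Piece f F r s) {T : Scheme.{u}} (v : T ⟶ (S.basicOpen P.a).toScheme) :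
    (∃ w, w ≫ pieceIn (P.hU.basicOpen P.a) P.I = v) ↔ Strat f F r (v ≫ (S.basicOpen P.a).ι) := by
  haveI := P.fp
  let u := v ≫ (S.basicOpen P.a).ι
  have hT : (⊤ : T.Opens) ≤ u ⁻¹ᵁ S.basicOpen P.a := fun t _ => (v t).2
  rw [factors_pieceIn_iff, Piece.I, Ideal.map_le_iff_le_comap]
  constructor
  · intro h t
    obtain ⟨V, hV, htV, -⟩ := exists_isAffineOpen_mem_and_subset (X := T) (x := t) (U := ⊤) trivial
    have hVU : V ≤ u ⁻¹ᵁ P.U := fun z _ => S.basicOpen_le P.a (v z).2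
    refine ⟨P.U, P.hU, P.m, P.Q, V, hVU, hV, htV, P.fp, ⟨P.η⟩, ?_, ?_⟩
    · rw [Ideal.map_eq_bot_iff_le_ker]
      intro c hc
      have h0 : (u.appLE (S.basicOpen P.a) ⊤ hT).hom (QC.resO S (S.basicOpen_le P.a) c) = 0 := h hc
      rw [RingHom.mem_ker, ← u.map_appLE (fun z _ => hT (Set.mem_univ z))
          (homOfLE (S.basicOpen_le P.a)).op, ← u.appLE_map hT (homOfLE (le_top : V ≤ ⊤)).op]
      change (T.presheaf.map _).hom ((u.appLE (S.basicOpen P.a) ⊤ hT).hom
        (QC.resO S (S.basicOpen_le P.a) c)) = 0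
      rw [h0, map_zero]
    · refine Ideal.eq_top_of_isUnit_mem _ (Ideal.mem_map_of_mem _ P.ha) ?_
      rw [← u.map_appLE (fun z _ => hT (Set.mem_univ z)) (homOfLE (S.basicOpen_le P.a)).op]
      exact (RingedSpace.isUnit_res_basicOpen S.toLocallyRingedSpace.toRingedSpace P.a).map
        (u.appLE (S.basicOpen P.a) V (fun z _ => hT (Set.mem_univ z))).hom
  · intro h c hc
    have hTU : (⊤ : T.Opens) ≤ u ⁻¹ᵁ P.U := fun z hz => S.basicOpen_le P.a (hT hz)
    have h1 := (h.chart hq hF hfl P.m P.Q P.η).1 ⊤ hTU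
    rw [Ideal.map_eq_bot_iff_le_ker] at h1
    rw [Ideal.mem_comap, RingHom.mem_ker]
    have h0 := h1 hc
    rw [RingHom.mem_ker, ← u.map_appLE hT (homOfLE (S.basicOpen_le P.a)).op] at h0
    exact h0

omit [IsProper f] [LocallyOfFinitePresentation f] in
lemma appLE_fromSpecResidueField_eq_zero {U : S.Opens} (hU : IsAffineOpen U) {s : S} (hs : s ∈ U)
    (e : (⊤ : (Spec (S.residueField s)).Opens) ≤ S.fromSpecResidueField s ⁻¹ᵁ U) (c : Γ(S, U)) :
    ((S.fromSpecResidueField s).appLE U ⊤ e).hom c = 0 ↔ s ∉ S.basicOpen c := by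
  rw [← S.evaluation_eq_zero_iff_notMem_basicOpen s hs c, ← W7Cech.appLE_fromSpecResidueField hU s hs e]
  exact (map_eq_zero_iff _ (ConcreteCategory.bijective_of_isIso (Scheme.ΓSpecIso (S.residueField s)).hom).1).symm

include hq hF hfl in
/-- A point of fibre rank `r` gives a point of the stratum. -/
lemma strat_fromSpecResidueField {s : S} (hs : CohIII.fiberRank f F 0 s = r) :
    Strat f F r (S.fromSpecResidueField s) := by
  intro t
  obtain ⟨U, hU, m, Q, hsU, hQ, ⟨η⟩⟩ := exists_chart hq hF hfl s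
  haveI := hQ
  have e : (⊤ : (Spec (S.residueField s)).Opens) ≤ S.fromSpecResidueField s ⁻¹ᵁ U := fun z _ => by
    change S.fromSpecResidueField s z ∈ U
    rw [Scheme.fromSpecResidueField_apply]
    exact hsU
  refine ⟨U, hU, m, Q, ⊤, e, isAffineOpen_top _, trivial, hQ, ⟨η⟩, ?_, ?_⟩
  · rw [Ideal.map_eq_bot_iff_le_ker, low]
    intro c hc
    rw [RingHom.mem_ker, appLE_fromSpecResidueField_eq_zero hU hsU]
    intro hsc
    split_ifs at hc with h0
    · rw [Ideal.mem_bot.1 hc, Scheme.basicOpen_zero] at hsc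
      exact hsc.elim
    · have := (fiberRank_le_iff m Q η hsU (r - 1)).2 ⟨c, hc, hsc⟩
      omega
  · obtain ⟨a, ha, hsa⟩ := (fiberRank_le_iff m Q η hsU r).1 hs.le
    by_contra hne
    obtain ⟨p, hp, hle⟩ := Ideal.exists_le_maximal _ hne
    have hu : IsUnit (((S.fromSpecResidueField s).appLE U ⊤ e).hom a) := by
      let i := Scheme.ΓSpecIso (S.residueField s)
      have h1 : i.hom.hom (((S.fromSpecResidueField s).appLE U ⊤ e).hom a) ≠ 0 := fun h => by
        refine (appLE_fromSpecResidueField_eq_zero hU hsU e a).1 ?_ hsa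
        exact (ConcreteCategory.bijective_of_isIso i.hom).1 (h.trans (map_zero _).symm)
      have h2 := (isUnit_iff_ne_zero.2 h1).map i.inv.hom
      rwa [← RingHom.comp_apply, ← CommRingCat.hom_comp, i.hom_inv_id] at h2
    exact hp.ne_top (Ideal.eq_top_of_isUnit_mem _ (hle (Ideal.mem_map_of_mem _ ha)) hu)

include hq hF hfl in
/-- A point of the stratum has fibre rank `r`. -/
lemma fiberRank_eq_of_strat {T : Scheme.{u}} {u : T ⟶ S} (h : Strat f F r u) (z : T) :
    CohIII.fiberRank f F 0 (u z) = r := by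
  obtain ⟨U, hU, m, Q, hsU, hQ, ⟨η⟩⟩ := exists_chart hq hF hfl (u z)
  haveI := hQ
  obtain ⟨hlow, hhi⟩ := h.chart hq hF hfl m Q η
  refine le_antisymm ((fiberRank_le_iff m Q η hsU r).2 (hhi z hsU)) ?_
  by_contra hlt
  obtain ⟨c, hc, hzc⟩ := (fiberRank_le_iff m Q η hsU (r - 1)).1 (by omega)
  have h0 := hlow (u ⁻¹ᵁ U) le_rfl
  rw [Ideal.map_eq_bot_iff_le_ker, low, if_neg (by omega)] at h0
  have h1 : (u.app U).hom c = 0 := by
    rw [u.app_eq_appLE]
    exact h0 hc
  have h2 : z ∈ u ⁻¹ᵁ S.basicOpen c := hzc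
  rw [Scheme.preimage_basicOpen, h1, Scheme.basicOpen_zero] at h2
  exact h2

include hq hF hfl in
/-- **The stratum.** -/
theorem exists_stratum (r : ℕ) :
    ∃ (Z : Scheme.{u}) (ι : Z ⟶ S), IsImmersion ι ∧ LocallyOfFinitePresentation ι ∧ QuasiCompact ι ∧
      (∀ (T : Scheme.{u}) (u : T ⟶ S), (∃ u' : T ⟶ Z, u' ≫ ι = u) ↔ Push f F r u) ∧
      Set.range ι = {s : S | CohIII.fiberRank f F 0 s = r} := by
  let U₀ : S.Opens := ⟨{s : S | CohIII.fiberRank f F 0 s ≤ r}, isOpen_fiberRank_le hq hF hfl⟩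
  let J : Type u := U₀.toScheme
  let P : ∀ j : J, Piece f F r (U₀.ι j) := fun j => (nonempty_piece hq hF hfl j.2).some
  have hPle : ∀ j, S.basicOpen (P j).a ≤ U₀ := fun j z hz => by
    haveI := (P j).fp
    exact (fiberRank_le_iff (P j).m (P j).Q (P j).η (S.basicOpen_le _ hz) r).2 ⟨_, (P j).ha, hz⟩
  obtain ⟨Z, c₀, hc₀, hiff, hlfp⟩ := exists_glue (S := S) (fun {T} u => Strat f F r u)
    (fun w h => h.comp w) (fun h => strat_of_local h) U₀
    (fun u h t => (fiberRank_eq_of_strat hq hF hfl h t).le) (fun j => S.basicOpen (P j).a) hPle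
    (fun s hs => ⟨(⟨s, hs⟩ : U₀.toScheme), (P ⟨s, hs⟩).mem⟩)
    (fun j => Spec (CommRingCat.of (Γ(S, S.basicOpen (P j).a) ⧸ (P j).I)))
    (fun j => pieceIn ((P j).hU.basicOpen _) (P j).I) fun j T v => (P j).factors_iff hq hF hfl v
  haveI := hc₀
  haveI : LocallyOfFinitePresentation c₀ := hlfp fun j => pieceIn_lfp _ _ (by
    haveI := (P j).fp
    exact (fg_low (A := Γ(S, (P j).U))).map _)
  haveI : QuasiCompact U₀.ι := by
    rw [quasiCompact_iff_forall_isAffineOpen]
    intro U hU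
    obtain ⟨m⟩ := nonempty_ModelNN f hq hF hfl hU
    obtain ⟨Q, hQ, ⟨η⟩⟩ := exists_corep_model f m
    haveI := hQ
    obtain ⟨G, hG⟩ := Fitting.fg_ideal (R := Γ(S, U)) (M := (Q : Type u)) r
    rw [U₀.ι.isOpenEmbedding.isEmbedding.isCompact_iff]
    have heq : U₀.ι '' (U₀.ι ⁻¹ᵁ U : Set U₀.toScheme) = ⋃ a ∈ G, (S.basicOpen a : Set S) := by
      ext z
      simp only [Set.mem_iUnion, Set.mem_image]
      constructor
      · rintro ⟨w, hw, rfl⟩
        by_contra hne
        push_neg at hne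
        obtain ⟨a, ha, hza⟩ := (fiberRank_le_iff m Q η hw r).1 w.2
        refine (WeakAssLib.mem_primeIdealOf hU hw a).1 hza ?_
        rw [← hG] at ha
        refine (Submodule.span_le.2 fun g hg => ?_ : Submodule.span _ (G : Set Γ(S, U)) ≤ _) ha
        by_contra hgp
        exact hne g hg ((WeakAssLib.mem_primeIdealOf hU hw g).2 hgp)
      · rintro ⟨a, haG, hza⟩
        have haF : a ∈ Fitt.ideal Γ(S, U) Q r := hG ▸ Submodule.subset_span haG
        exact ⟨⟨z, (fiberRank_le_iff m Q η (S.basicOpen_le a hza) r).2 ⟨a, haF, hza⟩⟩, S.basicOpen_le a hza, rfl⟩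
    rw [heq]
    exact G.isCompact_biUnion fun a _ => (hU.basicOpen a).isCompact
  refine ⟨Z, c₀ ≫ U₀.ι, inferInstance, inferInstance, inferInstance,
    fun T u => (hiff T u).trans (push_iff_strat hq hF hfl u).symm, ?_⟩
  ext s
  constructor
  · rintro ⟨z, rfl⟩
    exact fiberRank_eq_of_strat hq hF hfl ((hiff Z (c₀ ≫ U₀.ι)).1 ⟨𝟙 _, Category.id_comp _⟩) z
  · intro hs
    obtain ⟨w, hw⟩ := (hiff _ _).2 (strat_fromSpecResidueField hq hF hfl hs)
    refine ⟨w (IsLocalRing.closedPoint _), ?_⟩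
    rw [← Scheme.Hom.comp_apply, hw, Scheme.fromSpecResidueField_apply]

end Groth.Agent.W7Strat
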