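import Groth.Agent.W7Strat.Triv

/-!
A trivialisation after a base change with good direct image gives one nearby.
-/

set_option autoImplicit false
set_option backward.isDefEq.respectTransparency false
set_option backward.isDefEq.respectTransparency.types false
set_option linter.style.haveILetI false
set_option maxHeartbeats 2000000

universe u

open CategoryTheory CategoryTheory.Limits AlgebraicGeometry TopologicalSpace Opposite
open Groth.Agent.W7Cech
open Groth.Agent.QC (res resO res_res res_self res_smul app_res)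
open Groth.Agent.WeakAssLib (mgerm mgerm_smul mgerm_res)
open Groth.Agent.KFlat
open TMul (IsFrame)

noncomputable section

namespace Groth.Agent.W7Strat

variable {X S : Scheme.{u}} {f : X ⟶ S} [IsProper f] [Flat f] [LocallyOfFinitePresentation f]
  [UnivO f] {E : X.Modules}

/-- Mutually combined families have a change matrix with unit determinant. -/
lemma isUnit_det_of_comb {P : Scheme.{u}} {G : P.Modules} {n : ℕ} {U : P.Opens} {a b : Fin n → Γ(G, U)}
    (ha : IsFrame a) (C D : Matrix (Fin n) (Fin n) Γ(P, U)) (hC : ∀ i, b i = ∑ j, C i j • a j)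
    (hD : ∀ i, a i = ∑ j, D i j • b j) : IsUnit C.det := by
  classical
  have hDC : D * C = 1 := Matrix.ext fun i k => by
    refine congrFun (ha.comb_injective (le_refl U) (a₁ := fun k => (D * C) i k)
      (a₂ := fun k => (1 : Matrix (Fin n) (Fin n) Γ(P, U)) i k) ?_) k
    simp only [res_self, Matrix.mul_apply, Finset.sum_smul, Matrix.one_apply, ite_smul, one_smul, zero_smul,
      Finset.sum_ite_eq, Finset.mem_univ, if_true]
    refine Eq.trans ?_ (hD i).symm
    rw [Finset.sum_comm]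
    refine Finset.sum_congr rfl fun j _ => ?_
    rw [hC j, Finset.smul_sum]
    simp only [mul_smul]
  exact IsUnit.of_mul_eq_one_right _ (by rw [← Matrix.det_mul, hDC, Matrix.det_one])

/-- The locus where sections form a frame. -/
def frameLocus {P : Scheme.{u}} {G : P.Modules} {U : P.Opens} {n : ℕ} (b : Fin n → Γ(G, U)) : P.Opens :=
  sSup {O | ∃ hO : O ≤ U, IsFrame fun i => res G hO (b i)}

section FrameLocus

variable {P : Scheme.{u}} {G : P.Modules} {U : P.Opens} {n : ℕ} {b : Fin n → Γ(G, U)}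

lemma frameLocus_le : frameLocus b ≤ U := sSup_le fun _ ⟨h, _⟩ => h

lemma le_frameLocus {O : P.Opens} (hO : O ≤ U) (h : IsFrame fun i => res G hO (b i)) : O ≤ frameLocus b :=
  le_sSup ⟨hO, h⟩

lemma bijective_of_mem_frameLocus {x : P} (hx : x ∈ frameLocus b) :
    Function.Bijective fun σ : Fin n → P.presheaf.stalk x => ∑ i, σ i • mgerm G (frameLocus_le hx) (b i) := by
  obtain ⟨O, ⟨hO, hOf⟩, hxO⟩ := Opens.mem_sSup.1 hx
  simpa only [mgerm_res] using hOf x hxO

/-- In a frame the locus is where the determinant is invertible. -/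
theorem frameLocus_inf_eq {V : P.Opens} (hV : V ≤ U) {a : Fin n → Γ(G, V)} (ha : IsFrame a)
    (c : Matrix (Fin n) (Fin n) Γ(P, V)) (hc : ∀ i, res G hV (b i) = ∑ j, c i j • a j) :
    frameLocus b ⊓ V = P.basicOpen c.det := by
  classical
  have hiff : ∀ (z : P) (hz : z ∈ V), (Function.Bijective fun σ : Fin n → P.presheaf.stalk z =>
      ∑ i, σ i • mgerm G (hV hz) (b i)) ↔ z ∈ P.basicOpen c.det := fun z hz => by
    have h := bijective_germs_iff (b := fun i => res G hV (b i)) ha hz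
      (c.map (P.presheaf.germ V z hz).hom) fun i => by
        rw [hc i, map_sum]
        exact Finset.sum_congr rfl fun j _ => mgerm_smul G hz _ _
    rw [← RingHom.mapMatrix_apply, ← RingHom.map_det, ← Scheme.mem_basicOpen] at h
    simpa only [mgerm_res] using h
  refine le_antisymm (fun z hz => (hiff z hz.2).1 (bijective_of_mem_frameLocus hz.1))
    (le_inf (le_frameLocus ((P.basicOpen_le _).trans hV) fun z hz => ?_) (P.basicOpen_le _))
  simpa only [mgerm_res] using (hiff z (P.basicOpen_le _ hz)).2 hz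

/-- In a frame of another length the locus is empty. -/
lemma frameLocus_inf_eq_bot {k : ℕ} {V : P.Opens} {a : Fin k → Γ(G, V)} (ha : IsFrame a) (hk : k ≠ n) :
    frameLocus b ⊓ V = ⊥ := by
  refine eq_bot_iff.2 fun z hz => ?_
  obtain ⟨O, ⟨hO, hOf⟩, hzO⟩ := Opens.mem_sSup.1 hz.1
  exact absurd (frame_card_unique ha hOf hz.2 hzO) hk

end FrameLocus

/-- A good direct image has frames over small affine opens. -/
theorem exists_frame_of_push {n : ℕ} {T : Scheme.{u}} {u : T ⟶ S} (hP : Push f E n u) (t : T) :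
    ∃ (W₀ : T.Opens) (b : Fin n → Γ((Scheme.Modules.pushforward (pullback.snd f u)).obj
      ((Scheme.Modules.pullback (pullback.fst f u)).obj E), W₀)), IsAffineOpen W₀ ∧ t ∈ W₀ ∧ IsFrame b := by
  let M := (Scheme.Modules.pushforward (pullback.snd f u)).obj ((Scheme.Modules.pullback (pullback.fst f u)).obj E)
  have hM : FlatMod.IsFinLocFreeOfRank n M := hP.1
  obtain ⟨W, m, b, htW, hb⟩ := TMul.exists_isFrame (E := M)
    (fun x => let ⟨U, hx, e⟩ := hM x; ⟨U, n, hx, e⟩) t
  obtain rfl : m = n := by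
    obtain ⟨e₁⟩ := nonempty_iso_free W.ι W.opensRange_ι.le hb
    obtain ⟨U, hx, ⟨e₂⟩⟩ := hM t
    exact ModDesc.rank_unique e₁ e₂ htW hx
  obtain ⟨W₀, hW₀, htW₀, hle⟩ := exists_isAffineOpen_mem_and_subset (X := T) (x := t) (U := W) htW
  exact ⟨W₀, fun i => res M hle (b i), hW₀, htW₀, isFrame_res hb hle⟩

set_option maxHeartbeats 6000000 in
/-- **The fibre over a point of trivial base change is in the frame locus.** -/
theorem fibre_le_frameLocus (hE : FlatMod.IsFinLocFree E) {m : ℕ} {T R : Scheme.{u}} {u : T ⟶ S}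
    (hP : Push f E m u) (w : R ⟶ T) (h : TrivN f E m (w ≫ u)) {r : R} {W₀ : T.Opens}
    {b : Fin m → Γ((Scheme.Modules.pushforward (pullback.snd f u)).obj
      ((Scheme.Modules.pullback (pullback.fst f u)).obj E), W₀)} (hb : IsFrame b) (hrW₀ : w r ∈ W₀)
    {x : (pullback f u : Scheme.{u})} (hx : pullback.snd f u x = w r) :
    x ∈ frameLocus (show Fin m → Γ((Scheme.Modules.pullback (pullback.fst f u)).obj E,
      pullback.snd f u ⁻¹ᵁ W₀) from b) := by
  classical
  let f' := pullback.snd f u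
  let G := (Scheme.Modules.pullback (pullback.fst f u)).obj E
  let M := (Scheme.Modules.pushforward f').obj G
  let p := pullback.fst f' w
  let q := pullback.snd f' w
  have sqR : IsPullback p q f' w := IsPullback.of_hasPullback f' w
  have sq' : IsPullback (p ≫ pullback.fst f u) q f (w ≫ u) := sqR.paste_horiz (IsPullback.of_hasPullback f u)
  haveI : IsIso (CohBC.bc0 f' w q p sqR.w G) := hP.2 p q w sqR
  let GR := (Scheme.Modules.pullback p).obj G
  obtain ⟨V, hrV, g, hg⟩ := h r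
  let V' : R.Opens := V ⊓ w ⁻¹ᵁ W₀
  have hrV' : r ∈ V' := ⟨hrV, hrW₀⟩
  -- the given frame
  obtain ⟨A₀, hA₀⟩ := exists_frame_pullback_comp sq'.isoPullback.hom (pullback.fst f (w ≫ u)) (p ≫ pullback.fst f u)
    sq'.isoPullback_hom_fst E hg (W' := q ⁻¹ᵁ V')
    (by
      rw [← Scheme.Hom.comp_preimage, sq'.isoPullback_hom_snd]
      exact q.preimage_mono inf_le_left)
  let A : Fin m → Γ(GR, q ⁻¹ᵁ V') := fun i =>
    (((Scheme.Modules.pullbackComp p (pullback.fst f u)).app E).symm.hom).app (q ⁻¹ᵁ V') (A₀ i)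
  have hA : IsFrame A := isFrame_app _ hA₀
  -- the images of the basis of the direct image
  have hle : q ⁻¹ᵁ V' ≤ p ⁻¹ᵁ (f' ⁻¹ᵁ W₀) := by
    rw [← Scheme.Hom.comp_preimage, sqR.w, Scheme.Hom.comp_preimage]
    exact q.preimage_mono inf_le_right
  let B : Fin m → Γ(GR, q ⁻¹ᵁ V') := fun i =>
    res GR hle (ProjMor.eta p G (f' ⁻¹ᵁ W₀) (show Γ(G, f' ⁻¹ᵁ W₀) from b i))
  let K := (Scheme.Modules.pushforward q).obj GR
  have hBp : IsFrame (N := K) (U := V') B := by
    let ν := CohBC.bc0 f' w q p sqR.w G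
    let θ := CohBC.bc0Adj f' w q p sqR.w G
    have h1 : (Scheme.Modules.pullbackPushforwardAdjunction w).unit.app M ≫
        (Scheme.Modules.pushforward w).map ν = θ :=
      ((Scheme.Modules.pullbackPushforwardAdjunction w).homEquiv_unit _ _ ν).symm.trans
        (Equiv.apply_symm_apply _ θ)
    have h2 := isFrame_res (isFrame_app (asIso ν) (TMul.IsFrame.pullback w hb)) (V := V') inf_le_right
    convert h2 using 2 with i
    refine Eq.trans ?_ (congrArg (res K (inf_le_right : V' ≤ w ⁻¹ᵁ W₀)) congr(($h1).app W₀ (b i)).symm)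
    exact (res_res _ _ _ _).symm
  have hAp : IsFrame (N := K) (U := V') A := isFrame_push q (app_bijective (f := f) sq') hA
  let φ := (q.app V').hom
  have hsm : ∀ (c : Γ(R, V')) (s : Γ(GR, q ⁻¹ᵁ V')),
      (show Γ(GR, q ⁻¹ᵁ V') from c • (show Γ(K, V') from s)) = φ c • s := fun c s => rfl
  obtain ⟨C, hC⟩ : ∃ C : Matrix (Fin m) (Fin m) Γ(pullback f' w, q ⁻¹ᵁ V'), ∀ i, B i = ∑ j, C i j • A j := by
    choose c hc using fun i => hA.comb_surjective le_rfl (B i)
    exact ⟨c, fun i => (hc i).symm.trans (Finset.sum_congr rfl fun j _ => by rw [res_self])⟩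
  obtain ⟨D, hD⟩ : ∃ D : Matrix (Fin m) (Fin m) Γ(pullback f' w, q ⁻¹ᵁ V'), ∀ i, A i = ∑ j, D i j • B j := by
    choose d hd using fun i => hBp.comb_surjective le_rfl (show Γ(K, V') from A i)
    refine ⟨fun i j => φ (d i j), fun i => (hd i).symm.trans ?_⟩
    refine Finset.sum_congr rfl fun j _ => ?_
    rw [res_self]
    rfl
  have hdet := isUnit_det_of_comb hA C D hC hD
  have hB : ∀ (y : (pullback f' w : Scheme.{u})) (hy : y ∈ q ⁻¹ᵁ V'), Function.Bijective
      fun σ : Fin m → (pullback f' w).presheaf.stalk y => ∑ i, σ i • mgerm GR hy (B i) := fun y hy => by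
    refine (bijective_germs_iff hA hy (C.map ((pullback f' w).presheaf.germ _ y hy).hom) fun i => ?_).2 ?_
    · rw [hC i, map_sum]
      exact Finset.sum_congr rfl fun j _ => mgerm_smul GR hy _ _
    · rw [← RingHom.mapMatrix_apply, ← RingHom.map_det]
      exact hdet.map _
  let b' : Fin m → Γ(G, f' ⁻¹ᵁ W₀) := b
  obtain ⟨y, hyx, hyr⟩ := Scheme.Pullback.exists_preimage_pullback (f := f') (g := w) x r hx
  have hy : y ∈ q ⁻¹ᵁ V' := by
    change q y ∈ V'
    rw [show q y = r from hyr]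
    exact hrV'
  subst hyx
  obtain ⟨k, Wa, a, hxa, ha⟩ := exists_hasRank hE (pullback.fst f u (p y))
  have ha' := TMul.IsFrame.pullback (pullback.fst f u) ha
  obtain rfl : k = m :=
    frame_card_unique (TMul.IsFrame.pullback p ha') hA (show y ∈ p ⁻¹ᵁ (pullback.fst f u ⁻¹ᵁ Wa) from hxa) hy
  let Vx := pullback.fst f u ⁻¹ᵁ Wa ⊓ f' ⁻¹ᵁ W₀
  have hxV : p y ∈ Vx := ⟨hxa, hle hy⟩
  obtain ⟨a', ha'f⟩ : ∃ a' : Fin k → Γ(G, Vx), IsFrame a' := ⟨_, isFrame_res ha' inf_le_left⟩
  choose c hc using fun i => ha'f.comb_surjective le_rfl (res G (inf_le_right : Vx ≤ f' ⁻¹ᵁ W₀) (b' i))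
  let cm : Matrix (Fin k) (Fin k) Γ(pullback f u, Vx) := Matrix.of c
  have hgerm : ∀ (z : (pullback f u : Scheme.{u})) (hz : z ∈ Vx) (i : Fin k),
      mgerm G (show z ∈ f' ⁻¹ᵁ W₀ from hz.2) (b' i) =
        ∑ j, cm.map ((pullback f u).presheaf.germ Vx z hz).hom i j • mgerm G hz (a' j) := fun z hz i => by
    rw [← mgerm_res G (inf_le_right : Vx ≤ f' ⁻¹ᵁ W₀) hz, ← hc i, map_sum]
    refine Finset.sum_congr rfl fun j _ => ?_
    rw [res_self, mgerm_smul]
    rfl
  have hxB : p y ∈ (pullback f u).basicOpen cm.det := by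
    rw [Scheme.mem_basicOpen _ _ _ hxV]
    refine IsUnit.of_map (p.stalkMap y).hom _ ?_
    have hy2 : y ∈ p ⁻¹ᵁ Vx := hxV
    have hpa : IsFrame fun j => ProjMor.eta p G Vx (a' j) := TMul.IsFrame.pullback p ha'f
    have hbij := hB y hy
    have key := (bijective_germs_iff (b := fun i => res GR (p.preimage_mono (inf_le_right : Vx ≤ f' ⁻¹ᵁ W₀))
        (ProjMor.eta p G (f' ⁻¹ᵁ W₀) (b' i))) hpa hy2
      ((cm.map ((pullback f u).presheaf.germ Vx (p y) hxV).hom).map (p.stalkMap y).hom) fun i => ?_).1 ?_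
    · rw [← RingHom.mapMatrix_apply, ← RingHom.map_det, ← RingHom.mapMatrix_apply, ← RingHom.map_det] at key
      exact key
    · rw [mgerm_res, ← C1Cap.kap_mgerm p G (hle hy) (b' i), hgerm (p y) hxV i, map_sum]
      refine Finset.sum_congr rfl fun j _ => ?_
      rw [kap_smul, C1Cap.kap_mgerm p G hxV (a' j)]
      rfl
    · simpa only [B, mgerm_res] using hbij
  exact ((frameLocus_inf_eq (b := b') (inf_le_right : Vx ≤ f' ⁻¹ᵁ W₀) ha'f cm fun i =>
    (hc i).symm.trans (Finset.sum_congr rfl fun j _ => by rw [res_self]; rfl)).symm.le hxB).1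

/-- Where the frame locus contains the fibres the bundle is trivial. -/
theorem trivN_of_frameLocus {m : ℕ} {T : Scheme.{u}} {u : T ⟶ S} {W₀ : T.Opens}
    (b : Fin m → Γ((Scheme.Modules.pullback (pullback.fst f u)).obj E, pullback.snd f u ⁻¹ᵁ W₀))
    {W : T.Opens} (hW : W ≤ W₀) (h : pullback.snd f u ⁻¹ᵁ W ≤ frameLocus b) : TrivN f E m (W.ι ≫ u) := by
  have hfr : IsFrame fun i => res ((Scheme.Modules.pullback (pullback.fst f u)).obj E)
      ((pullback.snd f u).preimage_mono hW) (b i) := fun x hx => by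
    simpa only [mgerm_res] using bijective_of_mem_frameLocus (h hx)
  obtain ⟨g', hg'⟩ := exists_frame_comp W.ι hfr
  exact fun t => ⟨W.ι ⁻¹ᵁ W, t.2, g', hg'⟩

/-- **Trivialisations spread.** -/
theorem exists_nhd_trivN (hE : FlatMod.IsFinLocFree E) {n : ℕ} {T R : Scheme.{u}} {u : T ⟶ S}
    (hP : Push f E n u) (w : R ⟶ T) (h : TrivN f E n (w ≫ u)) (r : R) :
    ∃ W : T.Opens, w r ∈ W ∧ TrivN f E n (W.ι ≫ u) := by
  let f' := pullback.snd f u
  obtain ⟨W₀, b, -, hrW₀, hb⟩ := exists_frame_of_push hP (w r)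
  let b' : Fin n → Γ((Scheme.Modules.pullback (pullback.fst f u)).obj E, f' ⁻¹ᵁ W₀) := b
  let C : Set (pullback f u : Scheme.{u}) := (↑(frameLocus b') : Set (pullback f u : Scheme.{u}))ᶜ
  have hcl : IsClosed (f'.base '' C) := f'.isClosedMap _ (frameLocus b').2.isClosed_compl
  refine ⟨W₀ ⊓ ⟨(f'.base '' C)ᶜ, hcl.isOpen_compl⟩,
    ⟨hrW₀, fun ⟨x, hx, hxr⟩ => hx (fibre_le_frameLocus hE hP w h hb hrW₀ hxr)⟩,
    trivN_of_frameLocus b' inf_le_left fun x hx => ?_⟩
  by_contra hx'
  exact hx.2 ⟨x, hx', rfl⟩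

end Groth.Agent.W7Strat
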