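import Groth.Agent.W7Cech.Corep
import Mathlib.LinearAlgebra.TensorProduct.Tower
import Mathlib.RingTheory.IsTensorProduct

/-!
Kernels of a map of modules after tensoring, corepresented by a module, and their base change.
-/

set_option autoImplicit false
set_option backward.isDefEq.respectTransparency false
set_option linter.style.haveILetI false
set_option maxHeartbeats 1000000

universe u

open CategoryTheory Opposite
open Groth.Agent.FlatCx
open scoped TensorProduct

noncomputable section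

namespace Groth.Agent.W7Strat

variable {A : Type u} [CommRing A]

/-- The kernels of `d ⊗ M` are the homomorphisms `Q → M`, naturally in `M`. -/
structure Reps {C0 C1 : Type u} [AddCommGroup C0] [Module A C0] [AddCommGroup C1] [Module A C1]
    (d : C0 →ₗ[A] C1) (Q : Type u) [AddCommGroup Q] [Module A Q] where
  /-- the equivalence -/
  e : ∀ (M : Type u) [AddCommGroup M] [Module A M], LinearMap.ker (d.rTensor M) ≃+ (Q →ₗ[A] M)
  nat : ∀ {M N : Type u} [AddCommGroup M] [Module A M] [AddCommGroup N] [Module A N] (g : M →ₗ[A] N)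
    (z : LinearMap.ker (d.rTensor M)) (h : g.lTensor C0 z.1 ∈ LinearMap.ker (d.rTensor N)),
    e N ⟨g.lTensor C0 z.1, h⟩ = g ∘ₗ e M z

section Congr

variable {C0 C1 : Type u} [AddCommGroup C0] [Module A C0] [AddCommGroup C1] [Module A C1]
  {d : C0 →ₗ[A] C1} {C0' C1' : Type u} [AddCommGroup C0'] [Module A C0'] [AddCommGroup C1'] [Module A C1']
  {d' : C0' →ₗ[A] C1'} {Q : Type u} [AddCommGroup Q] [Module A Q]

/-- Transport along an isomorphism of the maps. -/
theorem Reps.congr (r : Reps d' Q) (e0 : C0 ≃ₗ[A] C0') (e1 : C1 ≃ₗ[A] C1') (h : ∀ x, e1 (d x) = d' (e0 x)) :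
    Nonempty (Reps d Q) := by
  have hsq : ∀ (M : Type u) [AddCommGroup M] [Module A M] (z : C0 ⊗[A] M),
      d'.rTensor M (e0.rTensor M z) = e1.rTensor M (d.rTensor M z) := by
    intro M _ _ z
    induction z using TensorProduct.induction_on with
    | zero => simp only [map_zero]
    | tmul x m => simp [h]
    | add x y hx hy => simp only [map_add, hx, hy]
  have hker : ∀ (M : Type u) [AddCommGroup M] [Module A M],
      (LinearMap.ker (d.rTensor M)).map (e0.rTensor M : C0 ⊗[A] M →ₗ[A] C0' ⊗[A] M) =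
        LinearMap.ker (d'.rTensor M) := by
    intro M _ _
    ext z
    obtain ⟨y, rfl⟩ := (e0.rTensor M).surjective z
    rw [Submodule.mem_map_equiv, LinearEquiv.symm_apply_apply, LinearMap.mem_ker, LinearMap.mem_ker, hsq,
      LinearEquiv.map_eq_zero_iff]
  refine ⟨⟨fun M _ _ => (((e0.rTensor M).submoduleMap _).trans (LinearEquiv.ofEq _ _ (hker M))).toAddEquiv.trans
    (r.e M), fun {M N} _ _ _ _ g z hz => ?_⟩⟩
  refine Eq.trans ?_ (r.nat g _ ?_)
  · refine congrArg (r.e N) (Subtype.ext ?_)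
    change e0.rTensor N (g.lTensor C0 z.1) = g.lTensor C0' (e0.rTensor M z.1)
    generalize z.1 = w
    induction w using TensorProduct.induction_on with
    | zero => simp only [map_zero]
    | tmul x m => simp
    | add x y hx hy => simp only [map_add, hx, hy]
  · have hn : d'.rTensor N (g.lTensor C0' (e0.rTensor M z.1)) = 0 := by
      rw [← LinearMap.comp_apply, LinearMap.rTensor_comp_lTensor, ← LinearMap.lTensor_comp_rTensor,
        LinearMap.comp_apply, hsq, z.2, map_zero, map_zero]
    exact hn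

end Congr

/-- A corepresentation of `T⁰` of a complex in nonnegative degrees. -/
theorem nonempty_reps_of_iso (C : CochainComplex (ModuleCat.{u} A) ℕ) (Q : ModuleCat.{u} A)
    (η : CohIII.TFun C 0 ≅ (linearCoyoneda A (ModuleCat.{u} A)).obj (op Q)) :
    Nonempty (Reps (C.d 0 1).hom Q) := by
  have key : ∀ k, k = (ComplexShape.up ℕ).next 0 → Nonempty (Reps (C.d 0 k).hom Q) := by
    intro k hk
    subst hk
    have hbij : ∀ M : ModuleCat.{u} A, Function.Bijective (cls C 0 M) := fun M => by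
      refine ⟨(injective_iff_map_eq_zero _).2 fun z hz => ?_, cls_surjective C 0 M⟩
      obtain ⟨y, hy⟩ := (cls_eq_zero_iff C 0 M z).1 hz
      refine Subtype.ext (hy.symm.trans ?_)
      rw [dT, C.shape _ _ (by simp)]
      simp
    refine ⟨⟨fun M _ _ => ((LinearEquiv.ofBijective (cls C 0 (ModuleCat.of A M)) (hbij _)).trans
      ((η.app (ModuleCat.of A M)).toLinearEquiv.trans (ModuleCat.homLinearEquiv (R := A)))).toAddEquiv,
      fun {M N} _ _ _ _ g z hz => ?_⟩⟩
    change ((η.hom.app (ModuleCat.of A N)).hom (cls C 0 (ModuleCat.of A N) ⟨g.lTensor _ z.1, hz⟩)).hom =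
      g ∘ₗ ((η.hom.app (ModuleCat.of A M)).hom (cls C 0 (ModuleCat.of A M) z)).hom
    refine (congrArg (fun t => ((η.hom.app (ModuleCat.of A N)).hom t).hom)
      (TFun_map_cls C 0 (ModuleCat.ofHom g : ModuleCat.of A M ⟶ ModuleCat.of A N) z).symm).trans ?_
    exact congrArg ModuleCat.Hom.hom
      (ConcreteCategory.congr_hom (η.hom.naturality (ModuleCat.ofHom g : ModuleCat.of A M ⟶ ModuleCat.of A N))
        (cls C 0 (ModuleCat.of A M) z))
  exact key 1 (CochainComplex.next ℕ 0).symm

section BaseChange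

variable (B : Type u) [CommRing B] [Algebra A B]
  {C0 C1 : Type u} [AddCommGroup C0] [Module A C0] [AddCommGroup C1] [Module A C1] {d : C0 →ₗ[A] C1}
  {D0 D1 : Type u} [AddCommGroup D0] [Module A D0] [Module B D0] [IsScalarTower A B D0]
  [AddCommGroup D1] [Module A D1] [Module B D1] [IsScalarTower A B D1] {d' : D0 →ₗ[B] D1}
  {ψ₀ : C0 →ₗ[A] D0} {ψ₁ : C1 →ₗ[A] D1}
  {Q : Type u} [AddCommGroup Q] [Module A Q] {Q' : Type u} [AddCommGroup Q'] [Module B Q']

/-- Corepresenting modules commute with base change. -/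
theorem Reps.nonempty_baseChange (h₀ : IsBaseChange B ψ₀) (h₁ : IsBaseChange B ψ₁)
    (hd : ∀ x, d' (ψ₀ x) = ψ₁ (d x)) (r : Reps d Q) (r' : Reps d' Q') :
    Nonempty (Q' ≃ₗ[B] B ⊗[A] Q) := by
  -- `θ` at each module over the algebra
  have key : ∀ (M : Type u) [AddCommGroup M] [Module A M] [Module B M] [IsScalarTower A B M],
      ∃ φ : D0 ⊗[B] M ≃ₗ[A] C0 ⊗[A] M, (∀ (c : C0) (m : M), φ (ψ₀ c ⊗ₜ m) = c ⊗ₜ m) ∧
        ∀ z, d'.rTensor M z = 0 ↔ d.rTensor M (φ z) = 0 := by
    intro M _ _ _ _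
    have mk : ∀ {E F : Type u} [AddCommGroup E] [Module A E] [AddCommGroup F] [Module A F] [Module B F]
        [IsScalarTower A B F] {ψ : E →ₗ[A] F} (h : IsBaseChange B ψ),
        ∃ φ : F ⊗[B] M ≃ₗ[A] E ⊗[A] M, ∀ (c : E) (m : M), φ (ψ c ⊗ₜ m) = c ⊗ₜ m := by
      intro E F _ _ _ _ _ _ ψ h
      refine ⟨(((TensorProduct.comm B F M).trans (TensorProduct.congr (LinearEquiv.refl B M) h.equiv.symm)).trans
        (TensorProduct.AlgebraTensorModule.cancelBaseChange A B B M E)).restrictScalars A ≪≫ₗ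
          TensorProduct.comm A M E, fun c m => ?_⟩
      simp [IsBaseChange.equiv_symm_apply]
    obtain ⟨φ₀, hφ₀⟩ := mk h₀
    obtain ⟨φ₁, hφ₁⟩ := mk h₁
    have hc : ∀ z, φ₁ (d'.rTensor M z) = d.rTensor M (φ₀ z) := by
      intro z
      obtain ⟨y, rfl⟩ := φ₀.symm.surjective z
      rw [LinearEquiv.apply_symm_apply]
      induction y using TensorProduct.induction_on with
      | zero => simp only [map_zero]
      | tmul c m =>
        rw [show φ₀.symm (c ⊗ₜ m) = ψ₀ c ⊗ₜ m from φ₀.symm_apply_eq.2 (hφ₀ c m).symm, LinearMap.rTensor_tmul, hd,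
          hφ₁, LinearMap.rTensor_tmul]
      | add x y hx hy => simp only [map_add, hx, hy]
    exact ⟨φ₀, hφ₀, fun z => by rw [← hc, LinearEquiv.map_eq_zero_iff]⟩
  choose φ hφ hker using key
  -- the values of the base change
  have hE : ∀ (M : Type u) [AddCommGroup M] [Module A M] [Module B M] [IsScalarTower A B M],
      ∃ E : (Q' →ₗ[B] M) ≃+ (B ⊗[A] Q →ₗ[B] M), ∀ w,
        E w = (LinearMap.liftBaseChangeEquiv B) (r.e M
          ⟨φ M ((r'.e M).symm w).1, (hker M _).1 ((r'.e M).symm w).2⟩) := by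
    intro M _ _ _ _
    let k : LinearMap.ker (d'.rTensor M) ≃+ LinearMap.ker (d.rTensor M) :=
      { toFun := fun z => ⟨φ M z.1, (hker M _).1 z.2⟩
        invFun := fun z => ⟨(φ M).symm z.1, (hker M _).2 (by rw [LinearEquiv.apply_symm_apply]; exact z.2)⟩
        left_inv := fun z => Subtype.ext ((φ M).symm_apply_apply _)
        right_inv := fun z => Subtype.ext ((φ M).apply_symm_apply _)
        map_add' := fun z w => Subtype.ext (map_add (φ M) z.1 w.1) }
    exact ⟨(((r'.e M).symm.trans k).trans (r.e M)).trans (LinearMap.liftBaseChangeEquiv B).toAddEquiv,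
      fun w => rfl⟩
  choose E hEw using hE
  have hnat : ∀ (M N : Type u) [AddCommGroup M] [Module A M] [Module B M] [IsScalarTower A B M] [AddCommGroup N]
      [Module A N] [Module B N] [IsScalarTower A B N] (g : M →ₗ[B] N) (w : Q' →ₗ[B] M),
      E N (g ∘ₗ w) = g ∘ₗ E M w := by
    intro M N _ _ _ _ _ _ _ _ g w
    have hφn : ∀ z, φ N (g.lTensor D0 z) = (g.restrictScalars A).lTensor C0 (φ M z) := by
      intro z
      obtain ⟨y, rfl⟩ := (φ M).symm.surjective z
      rw [LinearEquiv.apply_symm_apply]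
      induction y using TensorProduct.induction_on with
      | zero => simp only [map_zero]
      | tmul c m =>
        rw [show (φ M).symm (c ⊗ₜ m) = ψ₀ c ⊗ₜ m from (φ M).symm_apply_eq.2 (hφ M c m).symm, LinearMap.lTensor_tmul,
          hφ, LinearMap.lTensor_tmul]
        rfl
      | add x y hx hy => simp only [map_add, hx, hy]
    obtain ⟨z, rfl⟩ := (r'.e M).surjective w
    have hz : g.lTensor D0 z.1 ∈ LinearMap.ker (d'.rTensor N) := by
      rw [LinearMap.mem_ker, ← LinearMap.comp_apply, LinearMap.rTensor_comp_lTensor, ← LinearMap.lTensor_comp_rTensor,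
        LinearMap.comp_apply, z.2, map_zero]
    have hz' : (g.restrictScalars A).lTensor C0 (φ M z.1) ∈ LinearMap.ker (d.rTensor N) := by
      rw [← hφn]; exact (hker N _).1 hz
    refine (hEw N _).trans (Eq.trans ?_ (congrArg (fun t => g ∘ₗ t) (hEw M _).symm))
    have e1 : (⟨φ N ((r'.e N).symm (g ∘ₗ r'.e M z)).1, (hker N _).1 ((r'.e N).symm (g ∘ₗ r'.e M z)).2⟩ :
        LinearMap.ker (d.rTensor N)) = ⟨(g.restrictScalars A).lTensor C0 (φ M z.1), hz'⟩ := by
      refine Subtype.ext ?_
      change φ N ((r'.e N).symm (g ∘ₗ r'.e M z)).1 = _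
      rw [← r'.nat g z hz, AddEquiv.symm_apply_apply]
      exact hφn _
    rw [e1, r.nat (g.restrictScalars A) ⟨φ M z.1, (hker M _).1 z.2⟩ hz']
    refine TensorProduct.AlgebraTensorModule.curry_injective (LinearMap.ext fun b => LinearMap.ext fun q => ?_)
    simp [AddEquiv.symm_apply_apply]
  let BQ := B ⊗[A] Q
  letI : Module A Q' := Module.compHom Q' (algebraMap A B)
  haveI : IsScalarTower A B Q' := IsScalarTower.of_algebraMap_smul fun _ _ => rfl
  let a : Q' →ₗ[B] BQ := (E BQ).symm LinearMap.id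
  let b : BQ →ₗ[B] Q' := E Q' LinearMap.id
  refine ⟨LinearEquiv.ofLinear a b ?_ ?_⟩
  · have h := hnat Q' BQ a LinearMap.id
    rw [LinearMap.comp_id, AddEquiv.apply_symm_apply] at h
    exact h.symm
  · refine (E Q').injective ?_
    rw [hnat BQ Q' b a, AddEquiv.apply_symm_apply, LinearMap.comp_id]

end BaseChange

end Groth.Agent.W7Strat
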